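import Groth.Agent.GaDualLib.Cover
import Groth.Agent.ExtOneLib
import Groth.Prelude.Def_CGrpSh2

/-!
# First cohomology of an internal Hom injects into the first Ext group

For abelian sheaves `F`, `G` on the big fppf site, `H¹(S, 𝓗om(F, G)) = 0` as soon as `Ext¹(F, G) = 0`: a class is given
by a cocycle of homomorphisms on a cover `U → S`, which twists `G ⊕ F` to an extension of `F` by `G`.
-/

set_option autoImplicit false
set_option backward.isDefEq.respectTransparency false
set_option backward.isDefEq.respectTransparency.types false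
set_option linter.style.haveILetI false

universe u

open CategoryTheory CategoryTheory.Limits AlgebraicGeometry Opposite
open CategoryTheory.Abelian

noncomputable section

namespace Groth.Agent.GaDualLib.DualExt

local notation "Jf" => QuotSh.J Scheme.fppfPrecoverage
local notation "Ab' " S => BigSite.Ab Scheme.fppfPrecoverage S

variable {S : Scheme.{u}}

section Gen

variable {F G : Ab' S}

theorem kernel_preimage (f : F ⟶ G) (T : Over S) (x : F.obj.obj (op T)) (hx : f.hom.app (op T) x = 0) :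
    ∃ y, (kernel.ι f).hom.app (op T) y = x := by
  let K : ShortComplex (Ab' S) := ShortComplex.mk (kernel.ι f) f (kernel.condition f)
  have hK : K.Exact := ShortComplex.exact_of_f_is_kernel K (kernelIsKernel f)
  exact (ShortComplex.ab_exact_iff _).1 (hK.map_of_mono_of_preservesKernel
    (sheafToPresheaf _ _ ⋙ (evaluation _ AddCommGrpCat.{u + 1}).obj (op T)) inferInstance inferInstance) x hx

theorem app_injective (f : F ⟶ G) [Mono f] (T : Over S) : Function.Injective (f.hom.app (op T)) :=
  (AddCommGrpCat.mono_iff_injective _).1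
    (inferInstanceAs (Mono ((sheafToPresheaf _ _ ⋙ (evaluation _ AddCommGrpCat.{u + 1}).obj (op T)).map f)))

theorem app_nat (f : F ⟶ G) {T T' : Over S} (a : T' ⟶ T) (x : F.obj.obj (op T)) :
    f.hom.app (op T') (F.obj.map a.op x) = G.obj.map a.op (f.hom.app (op T) x) :=
  NatTrans.naturality_apply f.hom a.op x

theorem mono_of_injective (f : F ⟶ G) (h : ∀ T : Over S, Function.Injective (f.hom.app (op T))) : Mono f := by
  haveI : ∀ T : (Over S)ᵒᵖ, Mono (f.hom.app T) := fun T => (AddCommGrpCat.mono_iff_injective _).2 (h (unop T))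
  haveI : Mono ((sheafToPresheaf _ _).map f) := NatTrans.mono_of_mono_app f.hom
  exact (sheafToPresheaf _ _).mono_of_mono_map this

theorem epi_of_local_lift (f : F ⟶ G) (h : ∀ (T : Over S) (z : G.obj.obj (op T)),
    ∃ (T' : Over S) (g : T' ⟶ T), IsCov g ∧ ∃ t, f.hom.app (op T') t = G.obj.map g.op z) : Epi f := by
  haveI : Presheaf.IsLocallySurjective (Jf S) f.hom := ⟨fun {T} z => by
    obtain ⟨T', g, hg, t, ht⟩ := h T z
    refine GrothendieckTopology.superset_covering _ ?_ hg.mem
    rw [Sieve.generate_le_iff]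
    rintro _ _ ⟨⟩
    exact ⟨t, ht⟩⟩
  exact (Sheaf.isLocallySurjective_iff_epi' AddCommGrpCat.{u + 1} f).1 this

end Gen

section Prod

variable (U : Over S)

/-- The product of `T` with `U`. -/
abbrev pr (T : Over S) : Over S := (Over.map U.hom).obj ((Over.pullback U.hom).obj T)

/-- The projection of `pr U T` to `T`. -/
def prT (T : Over S) : pr U T ⟶ T :=
  Over.homMk (pullback.fst T.hom U.hom) (by
    show pullback.fst T.hom U.hom ≫ T.hom = pullback.snd T.hom U.hom ≫ U.hom
    exact pullback.condition)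

/-- The projection of `pr U T` to `U`. -/
def prU (T : Over S) : pr U T ⟶ U := Over.homMk (pullback.snd T.hom U.hom) rfl

variable {U}

/-- The morphism to `pr U T` with given components. -/
def prLift {W T : Over S} (x : W ⟶ T) (v : W ⟶ U) : W ⟶ pr U T :=
  Over.homMk (pullback.lift x.left v.left (by rw [Over.w x, Over.w v])) (by
    show pullback.lift x.left v.left _ ≫ pullback.snd T.hom U.hom ≫ U.hom = W.hom
    rw [pullback.lift_snd_assoc, Over.w v])

/-- Functoriality of `pr U`. -/
abbrev prMap {T' T : Over S} (j : T' ⟶ T) : pr U T' ⟶ pr U T :=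
  (Over.map U.hom).map ((Over.pullback U.hom).map j)

@[reassoc]
theorem prLift_prT {W T : Over S} (x : W ⟶ T) (v : W ⟶ U) : prLift x v ≫ prT U T = x :=
  Over.OverMorphism.ext (pullback.lift_fst _ _ _)

@[reassoc]
theorem prLift_prU {W T : Over S} (x : W ⟶ T) (v : W ⟶ U) : prLift x v ≫ prU U T = v :=
  Over.OverMorphism.ext (pullback.lift_snd _ _ _)

@[reassoc]
theorem prMap_prT {T' T : Over S} (j : T' ⟶ T) : prMap (U := U) j ≫ prT U T = prT U T' ≫ j :=
  Over.OverMorphism.ext (pullback.lift_fst _ _ _)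

@[reassoc]
theorem prMap_prU {T' T : Over S} (j : T' ⟶ T) : prMap (U := U) j ≫ prU U T = prU U T' :=
  Over.OverMorphism.ext (pullback.lift_snd _ _ _)

theorem pr_ext {W T : Over S} {a b : W ⟶ pr U T} (h₁ : a ≫ prT U T = b ≫ prT U T)
    (h₂ : a ≫ prU U T = b ≫ prU U T) : a = b :=
  Over.OverMorphism.ext (pullback.hom_ext (congrArg CommaMorphism.left h₁) (congrArg CommaMorphism.left h₂))

theorem isCov_prT (hf : Flat U.hom) (hl : LocallyOfFinitePresentation U.hom) (hs : Surjective U.hom) (T : Over S) :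
    IsCov (prT U T) := by
  refine ⟨?_, ?_, ?_⟩ <;>
    (show _; simp only [prT, Over.homMk_left]; infer_instance)

variable (U)

/-- The sheaf of sections over the products with `U`. -/
abbrev pf (G : Ab' S) : Ab' S :=
  (BigSite.pushBig Scheme.fppfPrecoverage U.hom AddCommGrpCat.{u + 1}).obj
    ((BigSite.pullBig Scheme.fppfPrecoverage U.hom AddCommGrpCat.{u + 1}).obj G)

theorem pf_map (G : Ab' S) {T' T : Over S} (j : T' ⟶ T) (h : G.obj.obj (op (pr U T))) :
    (pf U G).obj.map j.op h = G.obj.map (prMap (U := U) j).op h := rfl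

end Prod

section Ev

variable {F G : Ab' S}

/-- The internal Hom. -/
abbrev Dl (F G : Ab' S) : Ab' S := HomSh.homSh (Jf S) F G

/-- The value of a local homomorphism at a section. -/
def appF {W : Over S} (φ : (Dl F G).obj.obj (op W)) (V : Over W) (x : F.obj.obj (op V.left)) :
    G.obj.obj (op V.left) :=
  (show F.over W ⟶ G.over W from φ).hom.app (op V) x

theorem appF_map {W : Over S} (φ : (Dl F G).obj.obj (op W)) {V V' : Over W} (j : V' ⟶ V)
    (x : F.obj.obj (op V.left)) : G.obj.map j.left.op (appF φ V x) = appF φ V' (F.obj.map j.left.op x) :=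
  (NatTrans.naturality_apply (show F.over W ⟶ G.over W from φ).hom j.op x).symm

/-- The value of a homomorphism at a global section. -/
def evF {W : Over S} (φ : (Dl F G).obj.obj (op W)) (x : F.obj.obj (op W)) : G.obj.obj (op W) :=
  appF φ (Over.mk (𝟙 W)) x

theorem evF_restrict {W W' : Over S} (φ : (Dl F G).obj.obj (op W)) (f : W' ⟶ W) (x : F.obj.obj (op W')) :
    evF ((Dl F G).obj.map f.op φ) x = appF φ (Over.mk (𝟙 W' ≫ f)) x := rfl

theorem evF_map {W W' : Over S} (φ : (Dl F G).obj.obj (op W)) (f : W' ⟶ W) (x : F.obj.obj (op W)) :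
    evF ((Dl F G).obj.map f.op φ) (F.obj.map f.op x) = G.obj.map f.op (evF φ x) :=
  (appF_map φ (Over.homMk f (by simp) : Over.mk (𝟙 W' ≫ f) ⟶ Over.mk (𝟙 W)) x).symm

theorem evF_add {W : Over S} (φ ψ : (Dl F G).obj.obj (op W)) (x : F.obj.obj (op W)) :
    evF (φ + ψ) x = evF φ x + evF ψ x := rfl

theorem evF_add_right {W : Over S} (φ : (Dl F G).obj.obj (op W)) (x y : F.obj.obj (op W)) :
    evF φ (x + y) = evF φ x + evF φ y :=
  map_add ((show F.over W ⟶ G.over W from φ).hom.app (op (Over.mk (𝟙 W)))).hom x y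

theorem evF_ext {W : Over S} {φ ψ : (Dl F G).obj.obj (op W)}
    (h : ∀ {V : Over S} (f : V ⟶ W) (x : F.obj.obj (op V)),
      evF ((Dl F G).obj.map f.op φ) x = evF ((Dl F G).obj.map f.op ψ) x) : φ = ψ := by
  have e : ∀ (V : Over W) (x : F.obj.obj (op V.left)), appF φ V x = appF ψ V x := fun V x => by
    let j : V ⟶ Over.mk (𝟙 V.left ≫ V.hom) := Over.homMk (𝟙 V.left) (by simp)
    have e' := congrArg (G.obj.map j.left.op) (h V.hom x)
    rw [evF_restrict, evF_restrict, appF_map, appF_map] at e'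
    simpa [j] using e'
  apply Sheaf.hom_ext
  refine NatTrans.ext (funext fun V => AddCommGrpCat.ext fun z => ?_)
  exact e (unop V) z

/-- A local homomorphism from compatible additive families of values. -/
def mkF {U : Over S} (K : ∀ {W : Over S}, (W ⟶ U) → F.obj.obj (op W) → G.obj.obj (op W))
    (hmap : ∀ {W W' : Over S} (j : W' ⟶ W) (v : W ⟶ U) (x : F.obj.obj (op W)),
      G.obj.map j.op (K v x) = K (j ≫ v) (F.obj.map j.op x))
    (hadd : ∀ {W : Over S} (v : W ⟶ U) (x y : F.obj.obj (op W)), K v (x + y) = K v x + K v y) :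
    (Dl F G).obj.obj (op U) :=
  (⟨{ app := fun V => (AddCommGrpCat.ofHom
        (X := (F.obj.obj (op (unop V).left) : Type (u + 1))) (Y := (G.obj.obj (op (unop V).left) : Type (u + 1)))
        (AddMonoidHom.mk' (M := (F.obj.obj (op (unop V).left) : Type (u + 1)))
          (G := (G.obj.obj (op (unop V).left) : Type (u + 1)))
          (fun z => K (unop V).hom z) fun y z => hadd (unop V).hom y z))
      naturality := fun V V' j => by
        ext z
        show K (unop V').hom (F.obj.map j.unop.left.op z) = G.obj.map j.unop.left.op (K (unop V).hom z)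
        rw [hmap, Over.w] }⟩ : F.over U ⟶ G.over U)

theorem evF_mkF {U : Over S} (K : ∀ {W : Over S}, (W ⟶ U) → F.obj.obj (op W) → G.obj.obj (op W))
    (hmap : ∀ {W W' : Over S} (j : W' ⟶ W) (v : W ⟶ U) (x : F.obj.obj (op W)),
      G.obj.map j.op (K v x) = K (j ≫ v) (F.obj.map j.op x))
    (hadd : ∀ {W : Over S} (v : W ⟶ U) (x y : F.obj.obj (op W)), K v (x + y) = K v x + K v y)
    {W : Over S} (j : W ⟶ U) (x : F.obj.obj (op W)) :
    evF ((Dl F G).obj.map j.op (mkF K hmap hadd)) x = K j x :=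
  (show appF (mkF K hmap hadd) (Over.mk (𝟙 W ≫ j)) x = K (𝟙 W ≫ j) x from rfl).trans (by rw [Category.id_comp])

end Ev

section Twist

variable {F G : Ab' S} {U : Over S}
  (d : ∀ {W : Over S}, (W ⟶ U) → (W ⟶ U) → (Dl F G).obj.obj (op W))
  (hdmap : ∀ {W W' : Over S} (j : W' ⟶ W) (a b : W ⟶ U), (Dl F G).obj.map j.op (d a b) = d (j ≫ a) (j ≫ b))
  (hdadd : ∀ {W : Over S} (a b c : W ⟶ U), d a b + d b c = d a c)

variable (U) in
/-- The first projection of the triple product. -/
abbrev ra (T : Over S) : pr (pr U U) T ⟶ pr U T :=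
  prLift (prT (pr U U) T) (prU (pr U U) T ≫ prT U U)

variable (U) in
/-- The second projection of the triple product. -/
abbrev rb (T : Over S) : pr (pr U U) T ⟶ pr U T :=
  prLift (prT (pr U U) T) (prU (pr U U) T ≫ prU U U)

theorem prMap_ra {T' T : Over S} (j : T' ⟶ T) :
    prMap (U := pr U U) j ≫ ra U T = ra U T' ≫ prMap (U := U) j := by
  apply pr_ext <;> simp [ra, prLift_prT, prLift_prU, prLift_prT_assoc, prLift_prU_assoc, prMap_prT, prMap_prU,
    prMap_prU_assoc, prMap_prT_assoc]

theorem prMap_rb {T' T : Over S} (j : T' ⟶ T) :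
    prMap (U := pr U U) j ≫ rb U T = rb U T' ≫ prMap (U := U) j := by
  apply pr_ext <;> simp [rb, prLift_prT, prLift_prU, prLift_prT_assoc, prLift_prU_assoc, prMap_prT, prMap_prU,
    prMap_prU_assoc, prMap_prT_assoc]

/-- The cocycle as a map. -/
def aMap : F ⟶ pf (pr U U) G :=
  ⟨{ app := fun T => AddCommGrpCat.ofHom
      (X := (F.obj.obj (op (unop T)) : Type (u + 1))) (Y := (G.obj.obj (op (pr (pr U U) (unop T))) : Type (u + 1)))
      (AddMonoidHom.mk' (M := (F.obj.obj (op (unop T)) : Type (u + 1)))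
        (G := (G.obj.obj (op (pr (pr U U) (unop T))) : Type (u + 1)))
        (fun x => evF (d (prU (pr U U) (unop T) ≫ prT U U) (prU (pr U U) (unop T) ≫ prU U U))
          (F.obj.map (prT (pr U U) (unop T)).op x))
        fun x y => by rw [map_add, evF_add_right])
     naturality := fun T T' j => by
       ext x
       show evF (d (prU (pr U U) (unop T') ≫ prT U U) (prU (pr U U) (unop T') ≫ prU U U))
           (F.obj.map (prT (pr U U) (unop T')).op (F.obj.map j.unop.op x))
         = G.obj.map (prMap (U := pr U U) j.unop).op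
           (evF (d (prU (pr U U) (unop T) ≫ prT U U) (prU (pr U U) (unop T) ≫ prU U U))
             (F.obj.map (prT (pr U U) (unop T)).op x))
       rw [← evF_map, hdmap, map_map, map_map, prMap_prT, prMap_prU_assoc, prMap_prU_assoc] }⟩

variable (G U) in
/-- The difference of the two restrictions. -/
def bMap : pf U G ⟶ pf (pr U U) G :=
  ⟨{ app := fun T => AddCommGrpCat.ofHom
      (X := (G.obj.obj (op (pr U (unop T))) : Type (u + 1))) (Y := (G.obj.obj (op (pr (pr U U) (unop T))) : Type (u + 1)))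
      (AddMonoidHom.mk' (M := (G.obj.obj (op (pr U (unop T))) : Type (u + 1)))
        (G := (G.obj.obj (op (pr (pr U U) (unop T))) : Type (u + 1)))
        (fun h => G.obj.map (rb U (unop T)).op h - G.obj.map (ra U (unop T)).op h)
        fun x y => by rw [map_add, map_add]; abel)
     naturality := fun T T' j => by
       ext h
       show G.obj.map (rb U (unop T')).op (G.obj.map (prMap (U := U) j.unop).op h)
           - G.obj.map (ra U (unop T')).op (G.obj.map (prMap (U := U) j.unop).op h)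
         = G.obj.map (prMap (U := pr U U) j.unop).op
           (G.obj.map (rb U (unop T)).op h - G.obj.map (ra U (unop T)).op h)
       rw [map_sub, map_map, map_map, map_map, map_map, prMap_ra, prMap_rb] }⟩

/-- The equation cutting out the twisted extension. -/
def phi : (F ⊞ pf U G) ⟶ pf (pr U U) G :=
  biprod.fst ≫ aMap d hdmap - biprod.snd ≫ bMap G U

theorem phi_app (T : Over S) (z : (F ⊞ pf U G).obj.obj (op T)) :
    (phi d hdmap).hom.app (op T) z =
      evF (d (prU (pr U U) T ≫ prT U U) (prU (pr U U) T ≫ prU U U))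
          (F.obj.map (prT (pr U U) T).op ((biprod.fst : F ⊞ pf U G ⟶ F).hom.app (op T) z))
        - (G.obj.map (rb U T).op ((biprod.snd : F ⊞ pf U G ⟶ pf U G).hom.app (op T) z)
          - G.obj.map (ra U T).op ((biprod.snd : F ⊞ pf U G ⟶ pf U G).hom.app (op T) z)) := by
  show (((biprod.fst : F ⊞ pf U G ⟶ F) ≫ aMap d hdmap).hom.app (op T) - ((biprod.snd : F ⊞ pf U G ⟶ pf U G) ≫ bMap G U).hom.app (op T)) z = _
  rfl

/-- The twisted extension. -/
abbrev tw : Ab' S := kernel (phi d hdmap)

/-- The projection to `F`. -/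
abbrev twFst : tw d hdmap ⟶ F := kernel.ι (phi d hdmap) ≫ biprod.fst

/-- The projection to sections over products with `U`. -/
abbrev twSnd : tw d hdmap ⟶ pf U G := kernel.ι (phi d hdmap) ≫ biprod.snd

theorem tw_eq (T : Over S) (z : (tw d hdmap).obj.obj (op T)) :
    evF (d (prU (pr U U) T ≫ prT U U) (prU (pr U U) T ≫ prU U U))
        (F.obj.map (prT (pr U U) T).op ((twFst d hdmap).hom.app (op T) z))
      = G.obj.map (rb U T).op ((twSnd d hdmap).hom.app (op T) z)
        - G.obj.map (ra U T).op ((twSnd d hdmap).hom.app (op T) z) := by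
  have h : (phi d hdmap).hom.app (op T) ((kernel.ι (phi d hdmap)).hom.app (op T) z) = 0 :=
    congr(($(kernel.condition (phi d hdmap))).hom.app (op T) z)
  rw [phi_app, sub_eq_zero] at h
  exact h

theorem exists_tw (T : Over S) (x : F.obj.obj (op T)) (h : G.obj.obj (op (pr U T)))
    (he : evF (d (prU (pr U U) T ≫ prT U U) (prU (pr U U) T ≫ prU U U)) (F.obj.map (prT (pr U U) T).op x)
      = G.obj.map (rb U T).op h - G.obj.map (ra U T).op h) :
    ∃ z, (twFst d hdmap).hom.app (op T) z = x ∧ (twSnd d hdmap).hom.app (op T) z = h := by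
  let w := (biprod.inl : F ⟶ F ⊞ pf U G).hom.app (op T) x + (biprod.inr : pf U G ⟶ F ⊞ pf U G).hom.app (op T) h
  have h₁ : (biprod.fst : F ⊞ pf U G ⟶ F).hom.app (op T) w = x := by
    have e₁ : (biprod.fst : F ⊞ pf U G ⟶ F).hom.app (op T)
        ((biprod.inl : F ⟶ F ⊞ pf U G).hom.app (op T) x) = x :=
      congr(($(biprod.inl_fst (X := F) (Y := pf U G))).hom.app (op T) x)
    have e₂ : (biprod.fst : F ⊞ pf U G ⟶ F).hom.app (op T)
        ((biprod.inr : pf U G ⟶ F ⊞ pf U G).hom.app (op T) h) = 0 :=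
      congr(($(biprod.inr_fst (X := F) (Y := pf U G))).hom.app (op T) h)
    simp only [w, map_add]
    rw [e₁, e₂, add_zero]
  have h₂ : (biprod.snd : F ⊞ pf U G ⟶ pf U G).hom.app (op T) w = h := by
    have e₁ : (biprod.snd : F ⊞ pf U G ⟶ pf U G).hom.app (op T)
        ((biprod.inl : F ⟶ F ⊞ pf U G).hom.app (op T) x) = 0 :=
      congr(($(biprod.inl_snd (X := F) (Y := pf U G))).hom.app (op T) x)
    have e₂ : (biprod.snd : F ⊞ pf U G ⟶ pf U G).hom.app (op T)
        ((biprod.inr : pf U G ⟶ F ⊞ pf U G).hom.app (op T) h) = h :=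
      congr(($(biprod.inr_snd (X := F) (Y := pf U G))).hom.app (op T) h)
    simp only [w, map_add]
    rw [e₁, e₂, zero_add]
  obtain ⟨z, hz⟩ := kernel_preimage (phi d hdmap) T w (by rw [phi_app, h₁, h₂, he, sub_self])
  refine ⟨z, ?_, ?_⟩
  · show (biprod.fst : F ⊞ pf U G ⟶ F).hom.app (op T) ((kernel.ι (phi d hdmap)).hom.app (op T) z) = x
    rw [hz, h₁]
  · show (biprod.snd : F ⊞ pf U G ⟶ pf U G).hom.app (op T) ((kernel.ι (phi d hdmap)).hom.app (op T) z) = h
    rw [hz, h₂]

theorem tw_ext {T : Over S} {z z' : (tw d hdmap).obj.obj (op T)}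
    (h₁ : (twFst d hdmap).hom.app (op T) z = (twFst d hdmap).hom.app (op T) z')
    (h₂ : (twSnd d hdmap).hom.app (op T) z = (twSnd d hdmap).hom.app (op T) z') : z = z' := by
  refine app_injective (kernel.ι (phi d hdmap)) T ?_
  have e : ∀ w : (F ⊞ pf U G).obj.obj (op T),
      w = (biprod.inl : F ⟶ F ⊞ pf U G).hom.app (op T) ((biprod.fst : F ⊞ pf U G ⟶ F).hom.app (op T) w)
        + (biprod.inr : pf U G ⟶ F ⊞ pf U G).hom.app (op T) ((biprod.snd : F ⊞ pf U G ⟶ pf U G).hom.app (op T) w) :=
    fun w => (congr(($(biprod.total (X := F) (Y := pf U G))).hom.app (op T) w)).symm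
  exact (e _).trans ((congrArg₂ (· + ·) (congrArg _ h₁) (congrArg _ h₂)).trans (e _).symm)

variable (G U) in
/-- Constant sections. -/
def cMap : G ⟶ pf U G :=
  ⟨{ app := fun T => G.obj.map (prT U (unop T)).op
     naturality := fun T T' j => by
       refine AddCommGrpCat.ext fun h => ?_
       show G.obj.map (prT U (unop T')).op (G.obj.map j.unop.op h)
         = G.obj.map (prMap (U := U) j.unop).op (G.obj.map (prT U (unop T)).op h)
       rw [map_map, map_map, prMap_prT] }⟩

theorem cMap_phi : (cMap G U ≫ biprod.inr) ≫ phi d hdmap = 0 := by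
  rw [phi, Preadditive.comp_sub, Category.assoc, Category.assoc, biprod.inr_fst_assoc, zero_comp,
    biprod.inr_snd_assoc, comp_zero, zero_sub, neg_eq_zero]
  refine Sheaf.hom_ext (NatTrans.ext (funext fun T => AddCommGrpCat.ext fun h => ?_))
  show G.obj.map (rb U (unop T)).op (G.obj.map (prT U (unop T)).op h)
      - G.obj.map (ra U (unop T)).op (G.obj.map (prT U (unop T)).op h) = 0
  rw [map_map, map_map, prLift_prT, prLift_prT, sub_self]

/-- The inclusion of `G` in the twisted extension. -/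
abbrev twIn : G ⟶ tw d hdmap := kernel.lift _ (cMap G U ≫ biprod.inr) (cMap_phi d hdmap)

theorem twIn_twFst : twIn d hdmap ≫ twFst d hdmap = 0 := by
  rw [twIn, twFst, kernel.lift_ι_assoc, Category.assoc, biprod.inr_fst, comp_zero]

theorem twIn_twSnd : twIn d hdmap ≫ twSnd d hdmap = cMap G U := by
  rw [twIn, twSnd, kernel.lift_ι_assoc, Category.assoc, biprod.inr_snd, Category.comp_id]

include hdmap hdadd in
theorem shortExact_tw (hU₁ : Flat U.hom) (hU₂ : LocallyOfFinitePresentation U.hom) (hU₃ : Surjective U.hom) :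
    (ShortComplex.mk (twIn d hdmap) (twFst d hdmap) (twIn_twFst d hdmap)).ShortExact := by
  have hcov : ∀ T : Over S, IsCov (prT U T) := isCov_prT hU₁ hU₂ hU₃
  haveI hc : Mono (cMap G U) := mono_of_injective _ fun T x y h => eq_of_map_eq G (hcov T) h
  haveI : Mono (twIn d hdmap ≫ twSnd d hdmap) := by rw [twIn_twSnd]; exact hc
  haveI hi : Mono (twIn d hdmap) := mono_of_mono _ (twSnd d hdmap)
  have hd0 : ∀ {W : Over S} (a : W ⟶ U), d a a = 0 := fun a => add_left_cancel ((hdadd a a a).trans (add_zero _).symm)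
  haveI : Epi (twFst d hdmap) := epi_of_local_lift _ fun T x => by
    let T' := pr U T
    let c := prT U T
    let v₀ : pr U T' ⟶ U := prT U T' ≫ prU U T
    let h : G.obj.obj (op (pr U T')) :=
      evF (d v₀ (prU U T')) (F.obj.map (prT U T').op (F.obj.map c.op x))
    obtain ⟨z, hz, -⟩ := exists_tw d hdmap T' (F.obj.map c.op x) h (by
      simp only [h]
      rw [← evF_map, ← evF_map, hdmap, hdmap]
      simp only [map_map, ← Category.assoc, v₀, prLift_prT, prLift_prU, prLift_prT_assoc]
      rw [← hdadd (prT (pr U U) T' ≫ prU U T) (prU (pr U U) T' ≫ prT U U) (prU (pr U U) T' ≫ prU U U), evF_add]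
      abel)
    exact ⟨T', c, hcov T, z, hz⟩
  refine ShortComplex.ShortExact.mk' ?_ hi ‹_›
  refine ShortComplex.exact_of_f_is_kernel _ (KernelFork.IsLimit.ofι' _ _ fun {A} k hk => ?_)
  dsimp only at k hk ⊢
  have hex : ∀ (T : Over S) (a : A.obj.obj (op T)),
      ∃ g : G.obj.obj (op T), (twIn d hdmap).hom.app (op T) g = k.hom.app (op T) a := fun T a => by
    have h₀ : (twFst d hdmap).hom.app (op T) (k.hom.app (op T) a) = 0 := congr(($hk).hom.app (op T) a)
    have he := tw_eq d hdmap T (k.hom.app (op T) a)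
    rw [h₀, map_zero] at he
    have he' : G.obj.map (rb U T).op ((twSnd d hdmap).hom.app (op T) (k.hom.app (op T) a))
        = G.obj.map (ra U T).op ((twSnd d hdmap).hom.app (op T) (k.hom.app (op T) a)) := by
      rw [← sub_eq_zero, ← he]
      exact map_zero ((show F.over (pr (pr U U) T) ⟶ G.over _ from _).hom.app (op (Over.mk (𝟙 _)))).hom
    obtain ⟨g, hg, -⟩ := existsUnique_descent G (hcov T) ((twSnd d hdmap).hom.app (op T) (k.hom.app (op T) a))
      fun {Z} p q e => by
        have h' := congrArg (G.obj.map (prLift (U := pr U U) (p ≫ prT U T) (prLift (p ≫ prU U T) (q ≫ prU U T))).op) he'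
        rw [map_map, map_map] at h'
        refine (Eq.trans ?_ h'.symm).trans ?_ <;> congr 3 <;> refine congrArg Quiver.Hom.op ?_ <;> apply pr_ext <;>
          simp [prLift_prT, prLift_prU, prLift_prT_assoc, prLift_prU_assoc, e]
    refine ⟨g, tw_ext d hdmap ?_ ?_⟩
    · rw [h₀]
      exact congr(($(twIn_twFst d hdmap)).hom.app (op T) g)
    · exact (congr(($(twIn_twSnd d hdmap)).hom.app (op T) g)).trans hg
  choose l hl using hex
  refine ⟨⟨{
    app := fun T => AddCommGrpCat.ofHom
      (X := (A.obj.obj (op (unop T)) : Type (u + 1))) (Y := (G.obj.obj (op (unop T)) : Type (u + 1)))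
      (AddMonoidHom.mk' (M := (A.obj.obj (op (unop T)) : Type (u + 1))) (G := (G.obj.obj (op (unop T)) : Type (u + 1)))
        (fun a => l (unop T) a) fun a b => app_injective (twIn d hdmap) (unop T) (by
          rw [map_add, hl, hl, hl, map_add]))
    naturality := fun T T' j => ?_ }⟩, ?_⟩
  · ext a
    refine app_injective (twIn d hdmap) (unop T') ?_
    show (twIn d hdmap).hom.app T' (l (unop T') (A.obj.map j a))
      = (twIn d hdmap).hom.app T' (G.obj.map j (l (unop T) a))
    rw [hl, NatTrans.naturality_apply, NatTrans.naturality_apply, hl]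
  · refine Sheaf.hom_ext (NatTrans.ext (funext fun T => AddCommGrpCat.ext fun a => ?_))
    exact hl (unop T) a

include hdmap hdadd in
theorem exists_trivialisation (hU₁ : Flat U.hom) (hU₂ : LocallyOfFinitePresentation U.hom) (hU₃ : Surjective U.hom)
    [Subsingleton (Ext.{u + 1} F G 1)] :
    ∃ κ : (Dl F G).obj.obj (op U), ∀ {W : Over S} (a b : W ⟶ U),
      d a b + (Dl F G).obj.map a.op κ = (Dl F G).obj.map b.op κ := by
  have hS := shortExact_tw d hdmap hdadd hU₁ hU₂ hU₃
  obtain ⟨s₀, hs₀⟩ := Ext.covariant_sequence_exact₃ F hS (Ext.mk₀ (𝟙 F)) (zero_add 1) (Subsingleton.elim _ _)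
  obtain ⟨σ, rfl⟩ := (Ext.mk₀_bijective F _).2 s₀
  rw [Ext.mk₀_comp_mk₀] at hs₀
  have hσ : σ ≫ twFst d hdmap = 𝟙 F := (Ext.mk₀_bijective F _).1 hs₀
  let ℓ : ∀ {W : Over S}, (W ⟶ U) → (W ⟶ pr U W) := fun {W} v => prLift (𝟙 W) v
  let kk : ∀ (W : Over S), F.obj.obj (op W) → G.obj.obj (op (pr U W)) :=
    fun W x => (σ ≫ twSnd d hdmap).hom.app (op W) x
  let K : ∀ {W : Over S}, (W ⟶ U) → F.obj.obj (op W) → G.obj.obj (op W) :=
    fun {W} v x => G.obj.map (ℓ v).op (kk W x)
  have hkk : ∀ {W W' : Over S} (j : W' ⟶ W) (x : F.obj.obj (op W)),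
      kk W' (F.obj.map j.op x) = G.obj.map (prMap (U := U) j).op (kk W x) := fun j x =>
    app_nat (σ ≫ twSnd d hdmap) j x
  have hKmap : ∀ {W W' : Over S} (j : W' ⟶ W) (v : W ⟶ U) (x : F.obj.obj (op W)),
      G.obj.map j.op (K v x) = K (j ≫ v) (F.obj.map j.op x) := fun {W W'} j v x => by
    simp only [K]
    rw [hkk, map_map, map_map]
    congr 3
    refine congrArg Quiver.Hom.op ?_
    apply pr_ext <;> simp [ℓ, prLift_prT, prLift_prU, prMap_prT, prMap_prU, prLift_prT_assoc]
  have hKadd : ∀ {W : Over S} (v : W ⟶ U) (x y : F.obj.obj (op W)), K v (x + y) = K v x + K v y := fun {W} v x y => by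
    simp only [K, kk]
    rw [map_add, map_add]
  refine ⟨mkF K hKmap hKadd, fun {W} a b => evF_ext fun {V} j x => ?_⟩
  rw [map_add, evF_add, hdmap, map_map, map_map, evF_mkF, evF_mkF]
  have h₁ : (twFst d hdmap).hom.app (op V) (σ.hom.app (op V) x) = x := congr(($hσ).hom.app (op V) x)
  have he := congrArg (G.obj.map (prLift (U := pr U U) (𝟙 V) (prLift (j ≫ a) (j ≫ b))).op)
    (tw_eq d hdmap V (σ.hom.app (op V) x))
  rw [h₁, ← evF_map, hdmap, map_map, map_sub, map_map, map_map] at he
  simp only [prLift_prT, prLift_prU, prLift_prU_assoc, op_id, CategoryTheory.Functor.map_id,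
    ConcreteCategory.id_apply] at he
  have ea : prLift (U := pr U U) (𝟙 V) (prLift (j ≫ a) (j ≫ b)) ≫ ra U V = ℓ (j ≫ a) := by
    apply pr_ext <;> simp [ℓ, prLift_prT, prLift_prU, prLift_prU_assoc]
  have eb : prLift (U := pr U U) (𝟙 V) (prLift (j ≫ a) (j ≫ b)) ≫ rb U V = ℓ (j ≫ b) := by
    apply pr_ext <;> simp [ℓ, prLift_prT, prLift_prU, prLift_prU_assoc]
  rw [ea, eb] at he
  exact add_eq_of_eq_sub he

end Twist

/-- `H¹` of an internal Hom vanishes if `Ext¹` does. -/
theorem subsingleton_H_one (F G : Ab' S) [Subsingleton (Ext.{u + 1} F G 1)] :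
    Subsingleton (BigSite.H Scheme.fppfPrecoverage S (Dl F G) 1) := by
  refine subsingleton_of_forall_eq 0 fun ξ => ?_
  obtain ⟨M, f, g, w, hS, rfl⟩ := ExtOneLib.exists_extension ξ
  haveI : Epi g := hS.epi_g
  haveI : Mono f := hS.mono_f
  let T₀ : Over S := Over.mk (𝟙 S)
  haveI : IsIso T₀.hom := inferInstanceAs (IsIso (𝟙 S))
  let hT : IsTerminal T₀ := Over.mkIdTerminal
  let adj := constantSheafAdj (Jf S) AddCommGrpCat.{u + 1} hT
  let ut := adj.unit.app (AddCommGrpCat.of (ULift.{u + 1} ℤ))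
  let gen := ut (ULift.up 1)
  obtain ⟨U, c, hc, m', hm'⟩ := exists_lift g gen
  have hU₁ : Flat U.hom := by rw [← Over.w c]; haveI := hc.1; infer_instance
  have hU₂ : LocallyOfFinitePresentation U.hom := by rw [← Over.w c]; haveI := hc.2.1; infer_instance
  have hU₃ : Surjective U.hom := by rw [← Over.w c]; haveI := hc.2.2; infer_instance
  have hd₀ : ∀ {W : Over S} (a b : W ⟶ U),
      ∃ x, f.hom.app (op W) x = M.obj.map b.op m' - M.obj.map a.op m' := fun {W} a b => by
    refine (ShortComplex.ab_exact_iff _).1 (hS.exact.map_of_mono_of_preservesKernel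
      (sheafToPresheaf _ _ ⋙ (evaluation _ AddCommGrpCat.{u + 1}).obj (op W)) inferInstance inferInstance) _ ?_
    show g.hom.app (op W) (M.obj.map b.op m' - M.obj.map a.op m') = 0
    rw [map_sub, app_nat, app_nat, hm', map_map, map_map, hT.hom_ext (a ≫ c) (b ≫ c), sub_self]
  choose d hd using @hd₀
  have hdmap : ∀ {W W' : Over S} (j : W' ⟶ W) (a b : W ⟶ U),
      (Dl F G).obj.map j.op (d a b) = d (j ≫ a) (j ≫ b) := fun {W W'} j a b => app_injective f W' (by
    rw [app_nat, hd, hd, map_sub, map_map, map_map])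
  have hdadd : ∀ {W : Over S} (a b c' : W ⟶ U), d a b + d b c' = d a c' := fun {W} a b c' => app_injective f W (by
    rw [map_add, hd, hd, hd]; abel)
  obtain ⟨κ, hκ⟩ := exists_trivialisation (F := F) (G := G) d hdmap hdadd
    hU₁ hU₂ hU₃
  obtain ⟨m, hm, -⟩ := existsUnique_descent M hc (m' - f.hom.app (op U) κ) fun {Z} a b _ => by
    have e := congrArg (f.hom.app (op Z)) (hκ a b)
    rw [map_add, hd, app_nat, app_nat] at e
    simp only [map_sub]
    rw [← e]
    abel
  have hgm : g.hom.app (op T₀) m = gen := eq_of_map_eq _ hc (by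
    rw [← app_nat, hm, map_sub, hm']
    have : g.hom.app (op U) (f.hom.app (op U) κ) = 0 := congr(($w).hom.app (op U) κ)
    rw [this, sub_zero])
  let φ : AddCommGrpCat.of (ULift.{u + 1} ℤ) ⟶ M.obj.obj (op T₀) :=
    AddCommGrpCat.ofHom ((zmultiplesHom _ m).comp AddEquiv.ulift.toAddMonoidHom)
  let σ := (adj.homEquiv _ M).symm φ
  have hσ : σ ≫ g = 𝟙 _ := by
    refine (adj.homEquiv _ _).injective ?_
    rw [Adjunction.homEquiv_naturality_right, Equiv.apply_symm_apply, Adjunction.homEquiv_unit]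
    refine AddCommGrpCat.ext fun z => ?_
    obtain ⟨z⟩ := z
    have e : (ULift.up z : ULift.{u + 1} ℤ) = z • ULift.up 1 := by
      apply ULift.ext
      simp
    rw [e, map_zsmul, map_zsmul]
    congr 1
    show g.hom.app (op T₀) ((1 : ℤ) • m) = _
    rw [one_smul, hgm]
    simp [gen, ut]
  calc hS.extClass = (Ext.mk₀ (σ ≫ g)).comp hS.extClass (zero_add 1) := by rw [hσ, Ext.mk₀_id_comp]
    _ = (Ext.mk₀ σ).comp ((Ext.mk₀ g).comp hS.extClass (zero_add 1)) (zero_add 1) := by
      rw [← Ext.mk₀_comp_mk₀, Ext.comp_assoc_of_second_deg_zero]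
    _ = 0 := by
      erw [hS.comp_extClass, Ext.comp_zero]

end Groth.Agent.GaDualLib.DualExt
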