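import Groth.Agent.GaDualLib.Points
import Groth.Agent.ExtOneLib

/-!
# Extensions of the additive by the multiplicative group split when invertible modules on the line are trivial
-/

set_option autoImplicit false
set_option backward.isDefEq.respectTransparency false
set_option backward.isDefEq.respectTransparency.types false
set_option linter.style.haveILetI false

universe u

open CategoryTheory CategoryTheory.Limits AlgebraicGeometry Opposite MonoidalCategory CartesianMonoidalCategory MonObj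
open CategoryTheory.Abelian

noncomputable section

namespace Groth.Agent.GaDualLib

variable {S : Scheme.{u}}

/-- Sections of a short exact sequence of sheaves are left exact. -/
theorem exists_preimage {F G H : BigSite.Ab Scheme.fppfPrecoverage S} {f : F ⟶ G} {g : G ⟶ H} {w : f ≫ g = 0}
    (hS : (ShortComplex.mk f g w).ShortExact) (T : Over S) (x : G.obj.obj (op T)) (hx : g.hom.app (op T) x = 0) :
    ∃ y, f.hom.app (op T) y = x := by
  haveI := hS.mono_f
  exact (ShortComplex.ab_exact_iff _).1 (hS.exact.map_of_mono_of_preservesKernel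
    (sheafToPresheaf _ _ ⋙ (evaluation _ AddCommGrpCat.{u + 1}).obj (op T)) inferInstance inferInstance) x hx

theorem injective_app {F G : BigSite.Ab Scheme.fppfPrecoverage S} (f : F ⟶ G) [Mono f] (T : Over S) :
    Function.Injective (f.hom.app (op T)) :=
  (AddCommGrpCat.mono_iff_injective _).1
    (inferInstanceAs (Mono ((sheafToPresheaf _ _ ⋙ (evaluation _ AddCommGrpCat.{u + 1}).obj (op T)).map f)))

theorem app_map {F G : BigSite.Ab Scheme.fppfPrecoverage S} (f : F ⟶ G) {T T' : Over S} (a : T' ⟶ T)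
    (x : F.obj.obj (op T)) : f.hom.app (op T') (F.obj.map a.op x) = G.obj.map a.op (f.hom.app (op T) x) :=
  NatTrans.naturality_apply f.hom a.op x

/-- A point of the additive group as a section. -/
def gaPt {T : Over S} (x : T ⟶ Red.Ga S) : (gaSh S).obj.obj (op T) := ULift.up (Additive.ofMul x)

theorem gaPt_map {T T' : Over S} (a : T' ⟶ T) (x : T ⟶ Red.Ga S) :
    (gaSh S).obj.map a.op (gaPt x) = gaPt (a ≫ x) := rfl

theorem gaPt_mul {T : Over S} (x y : T ⟶ Red.Ga S) : gaPt (x * y) = gaPt x + gaPt y := rfl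

theorem gaPt_one {T : Over S} : gaPt (1 : T ⟶ Red.Ga S) = 0 := rfl

theorem gaPt_surjective {T : Over S} (z : (gaSh S).obj.obj (op T)) : gaPt z.down.toMul = z := rfl

theorem exists_sect_of_coboundary {M : BigSite.Ab Scheme.fppfPrecoverage S} {f : gmSh S ⟶ M} {g : M ⟶ gaSh S} {w : f ≫ g = 0}
    {T A' : Over S} {c : A' ⟶ T} (hc : IsCov c) (z : (gaSh S).obj.obj (op T)) (t : M.obj.obj (op A'))
    (ht : g.hom.app (op A') t = (gaSh S).obj.map c.op z)
    (d : ∀ {Z : Over S} (a b : Z ⟶ A'), a ≫ c = b ≫ c → (gmSh S).obj.obj (op Z))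
    (hd : ∀ {Z : Over S} (a b : Z ⟶ A') (e : a ≫ c = b ≫ c),
      f.hom.app (op Z) (d a b e) = M.obj.map b.op t - M.obj.map a.op t)
    (k : (gmSh S).obj.obj (op A'))
    (hk : ∀ {Z : Over S} (a b : Z ⟶ A') (e : a ≫ c = b ≫ c), d a b e + (gmSh S).obj.map a.op k = (gmSh S).obj.map b.op k)
    (hw : f ≫ g = 0 := w) : ∃ s : M.obj.obj (op T), g.hom.app (op T) s = z := by
  let t₁ := t - f.hom.app (op A') k
  obtain ⟨s, hs, -⟩ := existsUnique_descent M hc t₁ fun {Z} a b e => by
    have h := congrArg (f.hom.app (op Z)) (hk a b e)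
    rw [map_add, hd, app_map, app_map] at h
    simp only [t₁, map_sub]
    rw [sub_eq_sub_iff_sub_eq_sub]
    calc M.obj.map a.op t - M.obj.map b.op t = -(M.obj.map b.op t - M.obj.map a.op t) := (neg_sub _ _).symm
      _ = _ := by rw [eq_sub_of_add_eq h, neg_sub]
  have hgs : g.hom.app (op T) s = z := by
    refine eq_of_map_eq (gaSh S) hc ?_
    rw [← app_map, hs, map_sub, ht]
    have : g.hom.app (op A') (f.hom.app (op A') k) = 0 := by
      exact congr(($hw).hom.app (op A') k)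
    rw [this, sub_zero]
  exact ⟨s, hgs⟩

theorem exists_norm_sect {M : BigSite.Ab Scheme.fppfPrecoverage S} {f : gmSh S ⟶ M} {g : M ⟶ gaSh S} {w : f ≫ g = 0}
    (s : M.obj.obj (op (Red.Ga S))) (hgs : g.hom.app (op (Red.Ga S)) s = gaPt (𝟙 (Red.Ga S))) :
    ∃ s₀ : M.obj.obj (op (Red.Ga S)), g.hom.app (op (Red.Ga S)) s₀ = gaPt (𝟙 (Red.Ga S)) ∧
      M.obj.map (1 : Red.Ga S ⟶ Red.Ga S).op s₀ = 0 := by
  let A := Red.Ga S
  let z := gaPt (𝟙 A)
  replace hgs : g.hom.app (op A) s = z := hgs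
  let o : A ⟶ A := 1
  let s₀ := s - M.obj.map o.op s
  have hz₀ : (gaSh S).obj.map o.op z = 0 := by
    rw [gaPt_map, Category.comp_id]; exact gaPt_one
  have hgs₀ : g.hom.app (op A) s₀ = z := by
    simp only [s₀, map_sub, app_map, hgs]
    rw [hz₀, sub_zero]
  have ho : M.obj.map o.op s₀ = 0 := by
    simp only [s₀, map_sub, map_map, o, MonObj.comp_one, sub_self]
  exact ⟨s₀, hgs₀, ho⟩

/-- An additive lift of the universal point gives a splitting. -/
theorem exists_splitting {M : BigSite.Ab Scheme.fppfPrecoverage S} {f : gmSh S ⟶ M} {g : M ⟶ gaSh S} {w : f ≫ g = 0}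
    (s₀ : M.obj.obj (op (Red.Ga S))) (hgs₀ : g.hom.app (op (Red.Ga S)) s₀ = gaPt (𝟙 (Red.Ga S)))
    (hadd : ∀ {T : Over S} (x y : T ⟶ Red.Ga S), M.obj.map (x * y).op s₀ = M.obj.map x.op s₀ + M.obj.map y.op s₀) :
    ∃ σ : gaSh S ⟶ M, σ ≫ g = 𝟙 _ := by
  let A := Red.Ga S
  refine ⟨⟨{ app := fun T => AddCommGrpCat.ofHom (AddMonoidHom.mk'
      (fun x => M.obj.map (x.down.toMul : unop T ⟶ A).op s₀) fun x y => hadd x.down.toMul y.down.toMul)
             naturality := fun T T' a => ?_ }⟩, ?_⟩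
  · ext x
    exact (map_map a.unop x.down.toMul s₀).symm
  · ext T x
    show g.hom.app T (M.obj.map (x.down.toMul : unop T ⟶ A).op s₀) = x
    rw [app_map, hgs₀, gaPt_map, Category.comp_id, gaPt_surjective]

theorem splits [IsReduced S]
    (hPic : ∀ L : (Red.Ga S).left.Modules, PicF.IsInvertible L → Nonempty (L ≅ Coh.structureModule (Red.Ga S).left))
    {M : BigSite.Ab Scheme.fppfPrecoverage S} {f : gmSh S ⟶ M} {g : M ⟶ gaSh S} {w : f ≫ g = 0}
    (hS : (ShortComplex.mk f g w).ShortExact) : ∃ σ : gaSh S ⟶ M, σ ≫ g = 𝟙 _ := by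
  haveI : Epi g := hS.epi_g
  haveI : Mono f := hS.mono_f
  let A := Red.Ga S
  let z := gaPt (𝟙 A)
  obtain ⟨A', c, hc, t, ht⟩ := exists_lift g z
  have hd₀ : ∀ {Z : Over S} (a b : Z ⟶ A'), a ≫ c = b ≫ c →
      ∃ x, f.hom.app (op Z) x = M.obj.map b.op t - M.obj.map a.op t := fun {Z} a b e => by
    refine exists_preimage hS Z _ ?_
    rw [map_sub, app_map, app_map, ht, map_map, map_map, e, sub_self]
  choose d hd using @hd₀
  obtain ⟨k, hk⟩ := exists_gm_coboundary hc hPic (fun a b e => d a b e)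
    (fun {Z Z'} m a b e e' => injective_app f Z' (by
      rw [app_map, hd, hd, map_sub, map_map, map_map]))
    (fun {Z} a b c' e₁ e₂ => injective_app f Z (by rw [map_add, hd, hd, hd]; abel))
  obtain ⟨s, hgs⟩ := exists_sect_of_coboundary (w := w) hc z t ht (fun a b e => d a b e) (fun a b e => hd a b e) k
    (fun a b e => hk a b e)
  obtain ⟨s₀, hgs₀, ho⟩ := exists_norm_sect (w := w) s hgs
  replace hgs₀ : g.hom.app (op A) s₀ = z := hgs₀
  let o : A ⟶ A := 1
  let p₁ : A ⊗ A ⟶ A := fst A A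
  let p₂ : A ⊗ A ⟶ A := snd A A
  let m : A ⊗ A ⟶ A := p₁ * p₂
  obtain ⟨h, hh⟩ := exists_preimage hS (A ⊗ A)
    (M.obj.map m.op s₀ - M.obj.map p₁.op s₀ - M.obj.map p₂.op s₀) (by
      simp only [map_sub, app_map, hgs₀, z, gaPt_map, Category.comp_id, m]
      erw [gaPt_mul p₁ p₂]
      abel)
  have h1 : ∀ q : A ⊗ A ⟶ A, (1 : A ⊗ A ⟶ A ⊗ A) ≫ q = p₁ ≫ o →
      M.obj.map (1 : A ⊗ A ⟶ A ⊗ A).op (M.obj.map q.op s₀) = 0 := fun q hq => by
    rw [map_map, hq, ← map_map, ho, map_zero]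
  have hh0 : M.obj.map m.op s₀ = M.obj.map p₁.op s₀ + M.obj.map p₂.op s₀ := by
    have e : ∀ q : A ⊗ A ⟶ A, IsMonHom q → (1 : A ⊗ A ⟶ A ⊗ A) ≫ q = p₁ ≫ o := fun q _ => by
      rw [MonObj.one_comp, MonObj.comp_one]
    have e₁ := e p₁ inferInstance
    have e₂ := e p₂ inferInstance
    have e₃ : (1 : A ⊗ A ⟶ A ⊗ A) ≫ m = p₁ ≫ o := by
      rw [MonObj.comp_mul, e₁, e₂, MonObj.comp_one, _root_.mul_one]
    have h0 : f.hom.app (op (A ⊗ A)) h = 0 := by
      rw [map_square_eq h, app_map, hh, map_sub, map_sub, h1 _ e₁, h1 _ e₂, h1 _ e₃, sub_zero, sub_zero]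
    rw [h0] at hh
    rwa [eq_comm, sub_sub, sub_eq_zero] at hh
  have hadd : ∀ {T : Over S} (x y : T ⟶ A), M.obj.map (x * y).op s₀ = M.obj.map x.op s₀ + M.obj.map y.op s₀ :=
    fun {T} x y => by
      have e := congrArg (M.obj.map (lift x y).op) hh0
      rw [map_add, map_map, map_map, map_map] at e
      simp only [m, p₁, p₂, MonObj.comp_mul, lift_fst, lift_snd] at e
      exact e
  exact exists_splitting (w := w) s₀ hgs₀ (fun x y => hadd x y)

/-- `Ext¹` of the additive by the multiplicative group. -/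
theorem subsingleton_ext [IsReduced S]
    (hPic : ∀ L : (Red.Ga S).left.Modules, PicF.IsInvertible L → Nonempty (L ≅ Coh.structureModule (Red.Ga S).left)) :
    Subsingleton (Ext.{u + 1} (gaSh S) (gmSh S) 1) := by
  refine subsingleton_of_forall_eq 0 fun ξ => ?_
  obtain ⟨M, f, g, w, hS, rfl⟩ := ExtOneLib.exists_extension ξ
  obtain ⟨σ, hσ⟩ := splits hPic hS
  calc hS.extClass = (Ext.mk₀ (σ ≫ g)).comp hS.extClass (zero_add 1) := by rw [hσ, Ext.mk₀_id_comp]
    _ = (Ext.mk₀ σ).comp ((Ext.mk₀ g).comp hS.extClass (zero_add 1)) (zero_add 1) := by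
      rw [← Ext.mk₀_comp_mk₀, Ext.comp_assoc_of_second_deg_zero]
    _ = 0 := by
      erw [hS.comp_extClass, Ext.comp_zero]

end Groth.Agent.GaDualLib
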