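import Groth.Agent.GaDualLib.Poly
import Groth.Agent.GaDualLib.ExtOne
import Groth.Agent.GaSplit.Main

/-!
# Extensions of the additive by the multiplicative group when Frobenius is surjective
-/

set_option autoImplicit false
set_option backward.isDefEq.respectTransparency false
set_option backward.isDefEq.respectTransparency.types false
set_option linter.style.haveILetI false
set_option maxHeartbeats 1000000

universe u

open CategoryTheory CategoryTheory.Limits AlgebraicGeometry Opposite MonoidalCategory CartesianMonoidalCategory MonObj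
open CategoryTheory.Abelian Groth.Agent.InvDescLib Groth.Agent.GmTorsor

noncomputable section

namespace Groth.Agent.GaDualLib

section Pow

variable {S : Scheme.{u}}

theorem gv_nsmul {T : Over S} (n : ℕ) (x : (gmSh S).obj.obj (op T)) : gv (n • x) = gv x ^ n := by
  induction n with
  | zero =>
    rw [zero_smul, pow_zero]
    have h := gv_add (0 : (gmSh S).obj.obj (op T)) 0
    rw [add_zero] at h
    exact (isUnit_gv (0 : (gmSh S).obj.obj (op T))).mul_left_cancel (h.symm.trans (_root_.mul_one _).symm)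
  | succ n ih => rw [succ_nsmul, gv_add, ih, pow_succ]

/-- A cocycle is a coboundary if a power is. -/
theorem exists_gm_coboundary_of_pow {p : ℕ} {T' T : Over S} {g : T' ⟶ T} (hg : IsCov g) (hT : CocTriv p T.left)
    (d : ∀ {Z : Over S} (a b : Z ⟶ T'), a ≫ g = b ≫ g → (gmSh S).obj.obj (op Z))
    (hnat : ∀ {Z Z' : Over S} (f : Z' ⟶ Z) (a b : Z ⟶ T') (w : a ≫ g = b ≫ g) (w' : (f ≫ a) ≫ g = (f ≫ b) ≫ g),
      (gmSh S).obj.map f.op (d a b w) = d (f ≫ a) (f ≫ b) w')
    (hcoc : ∀ {Z : Over S} (a b c : Z ⟶ T') (w₁ : a ≫ g = b ≫ g) (w₂ : b ≫ g = c ≫ g),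
      d a b w₁ + d b c w₂ = d a c (w₁.trans w₂))
    (K : (gmSh S).obj.obj (op T')) (hK : ∀ {Z : Over S} (a b : Z ⟶ T') (w : a ≫ g = b ≫ g),
      p • d a b w + (gmSh S).obj.map a.op K = (gmSh S).obj.map b.op K) :
    ∃ k : (gmSh S).obj.obj (op T'), ∀ {Z : Over S} (a b : Z ⟶ T') (w : a ≫ g = b ≫ g),
      d a b w + (gmSh S).obj.map a.op k = (gmSh S).obj.map b.op k := by
  haveI := isFpqc_left hg
  obtain ⟨u, hu, hc, hval⟩ := exists_cocycle_unit hg d hnat hcoc
  obtain ⟨D, k, cη, hxD, hk, hkeq, hco, hcc⟩ := exists_zariski_cocycle g.left hu hc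
  let K₀ := gv K
  have hK₀ : ∀ (Z : Scheme.{u}) (a b : Z ⟶ T'.left) (w : a ≫ g.left = b ≫ g.left),
      val2 g.left u a b w ^ p * a.appTop K₀ = b.appTop K₀ := fun Z a b w => by
    let a' : Over.mk (a ≫ T'.hom) ⟶ T' := Over.homMk a rfl
    let b' : Over.mk (a ≫ T'.hom) ⟶ T' := Over.homMk b (by
      show b ≫ T'.hom = a ≫ T'.hom
      rw [← Over.w g, reassoc_of% w])
    have e : a' ≫ g = b' ≫ g := Over.OverMorphism.ext w
    have h := congrArg gv (hK a' b' e)
    rw [gv_add, gv_nsmul, gv_map, gv_map, ← hval a' b' e] at h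
    exact h
  have hE : ∀ y, ∃ e : Γ(T.left, D y), IsUnit e ∧
      g.left.app (D y) e * T'.left.presheaf.map (homOfLE (le_top : g.left ⁻¹ᵁ D y ≤ ⊤)).op K₀ = k y ^ p := fun y => by
    let B := T'.left.presheaf.map (homOfLE (le_top : g.left ⁻¹ᵁ D y ≤ ⊤)).op K₀
    have hB : IsUnit B := (isUnit_gv K).map _
    obtain ⟨B', hB'⟩ := isUnit_iff_exists_inv.1 hB
    obtain ⟨e, he⟩ := exists_fun g.left (k y ^ p * B') fun Z a b ea eb w => by
      have hBv : ∀ (c : Z ⟶ T'.left) (ec : ∀ t, c t ∈ g.left ⁻¹ᵁ D y), ev c ec B = c.appTop K₀ := fun c ec =>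
        (ev_res _ _ _ _).trans (ev_top c _ K₀)
      have hP : k y ^ p * B' * B = k y ^ p := by
        rw [_root_.mul_assoc, _root_.mul_comm B' B, hB', _root_.mul_one]
      have a1 : ev a ea (k y ^ p * B') * a.appTop K₀ = ev a ea (k y) ^ p := by
        rw [← hBv a ea, ← map_mul, hP, map_pow]
      have b1 : ev b eb (k y ^ p * B') * b.appTop K₀ = ev b eb (k y) ^ p := by
        rw [← hBv b eb, ← map_mul, hP, map_pow]
      refine ((isUnit_gv K).map b.appTop.hom).mul_right_cancel ?_
      show ev a ea (k y ^ p * B') * b.appTop K₀ = ev b eb (k y ^ p * B') * b.appTop K₀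
      rw [b1, ← hkeq y Z a b ea eb w, mul_pow, ← a1, ← hK₀ Z a b w]
      ring
    refine ⟨e, ?_, ?_⟩
    · refine RingedSpace.isUnit_of_isUnit_germ _ _ e fun x hx => ?_
      obtain ⟨z, rfl⟩ := g.left.surjective x
      have h1 : z ∈ T'.left.basicOpen (g.left.app _ e) := by
        rw [he]
        exact (T'.left.toRingedSpace.mem_basicOpen _ z hx).2
          ((((hk y).pow p).mul (.of_mul_eq_one B ((_root_.mul_comm _ _).trans hB'))).map _)
      rw [← Scheme.preimage_basicOpen] at h1
      exact (T.left.toRingedSpace.mem_basicOpen e (g.left z) hx).1 h1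
    · rw [he]
      show k y ^ p * B' * B = k y ^ p
      rw [_root_.mul_assoc, _root_.mul_comm B' B, hB', _root_.mul_one]
  choose e he hek using hE
  have hee : ∀ i j, T.left.presheaf.map (homOfLE inf_le_left).op (e i) =
      (cη i j : Γ(T.left, D i ⊓ D j)) ^ p * T.left.presheaf.map (homOfLE inf_le_right).op (e j) := fun i j => by
    apply app_injective g.left
    have nat : ∀ {U V : T.left.Opens} (h : V ≤ U) (r : Γ(T.left, U)),
        g.left.app V (T.left.presheaf.map (homOfLE h).op r) =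
          T'.left.presheaf.map (homOfLE (g.left.preimage_mono h)).op (g.left.app U r) :=
      fun {U V} h r => ConcreteCategory.congr_hom (g.left.naturality (homOfLE h).op) r
    have h1 := congrArg (T'.left.presheaf.map (homOfLE (g.left.preimage_mono (inf_le_left : D i ⊓ D j ≤ D i))).op) (hek i)
    have h2 := congrArg (T'.left.presheaf.map (homOfLE (g.left.preimage_mono (inf_le_right : D i ⊓ D j ≤ D j))).op) (hek j)
    rw [map_mul, map_pow, res_res_ring] at h1 h2
    rw [map_mul, map_pow, nat, nat]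
    refine ((isUnit_gv K).map (T'.left.presheaf.map (homOfLE le_top).op).hom).mul_right_cancel ?_
    refine h1.trans ?_
    rw [_root_.mul_assoc]
    refine Eq.trans ?_ (congrArg (_ * ·) h2).symm
    rw [← mul_pow, hcc i j]
  obtain ⟨b, hbu, hb⟩ := hT T.left D cη (InvDescLib.iSup_eq_top _ fun y => ⟨y, hxD y⟩) hco e he hee
  obtain ⟨k₀, hk₀, hk'⟩ := exists_coboundary_of_bases g.left hxD hk hkeq hcc hbu hb
  obtain ⟨k₁, rfl⟩ := exists_gv hk₀
  refine ⟨k₁, fun {Z} a b w => gv_injective ?_⟩
  rw [gv_add, gv_map, gv_map, ← hval a b w]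
  exact hk' Z.left a.left b.left (congrArg CommaMorphism.left w)

end Pow

variable {R : Type u} [CommRing R]

/-- The base morphism of an affine space. -/
abbrev polyBase (R : Type u) [CommRing R] (σ : Type) : Spec (CommRingCat.of (MvPolynomial σ R)) ⟶ bS R :=
  Spec.map (CommRingCat.ofHom (MvPolynomial.C : R →+* MvPolynomial σ R))

/-- The function of a section of the multiplicative group on an affine space. -/
def sv {σ : Type} (x : (gmSh (bS R)).obj.obj (op (polyObj R σ))) : MvPolynomial σ R :=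
  gmVal (f := polyBase R σ) x.down.toMul

theorem sv_add {σ : Type} (x y : (gmSh (bS R)).obj.obj (op (polyObj R σ))) : sv (x + y) = sv x * sv y :=
  gmVal_mul (f := polyBase R σ) x.down.toMul y.down.toMul

theorem sv_injective {σ : Type} : Function.Injective (sv (R := R) (σ := σ)) := fun x y h =>
  ULift.ext _ _ (Additive.toMul.injective (gmVal_injective (f := polyBase R σ) h))

theorem isUnit_sv {σ : Type} (x : (gmSh (bS R)).obj.obj (op (polyObj R σ))) : IsUnit (sv x) :=
  isUnit_gmVal (f := polyBase R σ) _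

theorem sv_zero {σ : Type} : sv (0 : (gmSh (bS R)).obj.obj (op (polyObj R σ))) = 1 := by
  have h := sv_add (σ := σ) (0 : (gmSh (bS R)).obj.obj (op (polyObj R σ))) 0
  rw [add_zero] at h
  exact (isUnit_sv 0).mul_left_cancel (h.symm.trans (_root_.mul_one _).symm)

/-- The value of a point of the additive group on an affine space. -/
abbrev pv {σ : Type} (x : polyObj R σ ⟶ Red.Ga (bS R)) : MvPolynomial σ R := gaVal (f := polyBase R σ) x

theorem exists_pv {σ : Type} (P : MvPolynomial σ R) : ∃ x : polyObj R σ ⟶ Red.Ga (bS R), pv x = P :=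
  exists_gaVal (S := bS R) (f := polyBase R σ) P

theorem pv_mul {σ : Type} (x y : polyObj R σ ⟶ Red.Ga (bS R)) : pv (x * y) = pv x + pv y :=
  gaVal_mul (f := polyBase R σ) x y

theorem pv_polyX {σ : Type} (i : σ) : pv (polyX R i) = MvPolynomial.X i := gaVal_polyX R i

theorem pv_one {σ : Type} : pv (1 : polyObj R σ ⟶ Red.Ga (bS R)) = 0 := by
  show (Scheme.ΓSpecIso _).hom (Red.gaFn (1 : polyObj R σ ⟶ Red.Ga (bS R))) = 0
  rw [GaPoints.gaFn_one, map_zero]

theorem sv_map {σ τ : Type} (g : polyObj R τ ⟶ polyObj R σ) (v : σ → MvPolynomial τ R)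
    (hv : ∀ i, pv (g ≫ polyX R i) = v i) (x : (gmSh (bS R)).obj.obj (op (polyObj R σ))) :
    sv ((gmSh (bS R)).obj.map g.op x) = MvPolynomial.aeval v (sv x) := by
  let ψ : MvPolynomial σ R →+* MvPolynomial τ R := (MvPolynomial.aeval v).toRingHom
  have hC : Spec.map (CommRingCat.ofHom ψ) ≫ polyBase R σ = polyBase R τ := by
    rw [polyBase, ← Spec.map_comp, ← CommRingCat.ofHom_comp]
    congr 2
    exact (MvPolynomial.aeval v).comp_algebraMap
  have hg : g = mor ψ hC := polyObj_hom_ext fun i => gaVal_injective (f := polyBase R τ) (by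
    refine (hv i).trans ?_
    show v i = gaVal (mor ψ hC ≫ polyX R i)
    rw [gaVal_mor, gaVal_polyX]
    exact (MvPolynomial.aeval_X v i).symm)
  subst hg
  exact gmVal_mor ψ hC x.down.toMul

theorem splits_of_frobenius (p : ℕ) [Fact p.Prime] [CharP R p] (hF : Function.Surjective (frobenius R p))
    {M : BigSite.Ab Scheme.fppfPrecoverage (bS R)} {f : gmSh (bS R) ⟶ M} {g : M ⟶ gaSh (bS R)} {w : f ≫ g = 0}
    (hS : (ShortComplex.mk f g w).ShortExact) : ∃ σ : gaSh (bS R) ⟶ M, σ ≫ g = 𝟙 _ := by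
  haveI : Epi g := hS.epi_g
  haveI : Mono f := hS.mono_f
  haveI : ExpChar R p := ExpChar.prime Fact.out
  let A := Red.Ga (bS R)
  obtain ⟨A', c, hc, t, ht⟩ := exists_lift g (gaPt (𝟙 A))
  have hd₀ : ∀ {Z : Over (bS R)} (a b : Z ⟶ A'), a ≫ c = b ≫ c →
      ∃ x, f.hom.app (op Z) x = M.obj.map b.op t - M.obj.map a.op t := fun {Z} a b e => by
    refine exists_preimage hS Z _ ?_
    rw [map_sub, app_map, app_map, ht, map_map, map_map, e, sub_self]
  choose d hd using @hd₀
  have hp : ∀ {T : Over (bS R)} (x : T ⟶ A), p • gaPt x = 0 := fun {T} x => by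
    have hp0 : (p : Γ(T.left, ⊤)) = 0 := by
      rw [← map_natCast (GaPoints.ringMap (R := CommRingCat.of R) T.hom), CharP.cast_eq_zero, map_zero]
    have h : ∀ n : ℕ, Red.gaFn ((n • gaPt x).down.toMul : T ⟶ A) = (n : Γ(T.left, ⊤)) * Red.gaFn x := fun n => by
      induction n with
      | zero =>
        rw [zero_smul, Nat.cast_zero, zero_mul]
        exact GaPoints.gaFn_one
      | succ n ih =>
        rw [succ_nsmul, Nat.cast_succ, add_mul, _root_.one_mul, ← ih]
        exact GaPoints.gaFn_mul _ _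
    refine ULift.ext _ _ (Additive.toMul.injective (GaPoints.gaFn_injective ?_))
    rw [h p, hp0, zero_mul]
    exact GaPoints.gaFn_one.symm
  obtain ⟨K, hK⟩ := exists_preimage hS A' (p • t) (by rw [map_nsmul, ht, gaPt_map, hp])
  obtain ⟨k, hk⟩ := exists_gm_coboundary_of_pow (p := p) hc (cocTriv_ga R p hF).2 (fun a b e => d a b e)
    (fun {Z Z'} m a b e e' => injective_app f Z' (by
      rw [app_map, hd, hd, map_sub, map_map, map_map]))
    (fun {Z} a b c' e₁ e₂ => injective_app f Z (by rw [map_add, hd, hd, hd]; abel)) K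
    (fun {Z} a b e => injective_app f Z (by
      rw [map_add, map_nsmul, hd, app_map, app_map, hK, map_nsmul, map_nsmul, smul_sub]
      abel))
  obtain ⟨s, hgs⟩ := exists_sect_of_coboundary (w := w) hc (gaPt (𝟙 A)) t ht (fun a b e => d a b e)
    (fun a b e => hd a b e) k (fun a b e => hk a b e)
  obtain ⟨s₀, hgs₀, ho⟩ := exists_norm_sect (w := w) s hgs
  let F₀ : ∀ {T : Over (bS R)} (x y : T ⟶ A), ∃ h, f.hom.app (op T) h =
      M.obj.map (x * y).op s₀ - M.obj.map x.op s₀ - M.obj.map y.op s₀ := fun {T} x y => by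
    refine exists_preimage hS T _ ?_
    rw [map_sub, map_sub, app_map, app_map, app_map, hgs₀, gaPt_map, gaPt_map, gaPt_map, Category.comp_id,
      Category.comp_id, Category.comp_id]
    erw [gaPt_mul x y]
    abel
  choose F hF' using @F₀
  have hFnat : ∀ {T T' : Over (bS R)} (j : T' ⟶ T) (x y : T ⟶ A),
      (gmSh (bS R)).obj.map j.op (F x y) = F (j ≫ x) (j ≫ y) := fun {T T'} j x y => injective_app f T' (by
    rw [app_map, hF', hF', map_sub, map_sub, map_map, map_map, map_map, MonObj.comp_mul])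
  have hFsymm : ∀ {T : Over (bS R)} (x y : T ⟶ A), F y x = F x y := fun {T} x y => injective_app f T (by
    rw [hF', hF', _root_.mul_comm y x]; abel)
  have hFcoc : ∀ {T : Over (bS R)} (x y z : T ⟶ A), F y z + F x (y * z) = F (x * y) z + F x y :=
    fun {T} x y z => injective_app f T (by rw [map_add, map_add, hF', hF', hF', hF', _root_.mul_assoc]; abel)
  have hFone : ∀ {T : Over (bS R)} (x : T ⟶ A), F x 1 = 0 := fun {T} x => injective_app f T (by
    rw [hF', map_zero, _root_.mul_one, sub_self, zero_sub, neg_eq_zero,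
      show (1 : T ⟶ A) = x ≫ (1 : A ⟶ A) from (MonObj.comp_one x).symm, ← map_map, ho, map_zero])
  let P₂ := polyObj R (Fin 2)
  let X₀ : P₂ ⟶ A := polyX R 0
  let X₁ : P₂ ⟶ A := polyX R 1
  let h := sv (F X₀ X₁)
  have heval : ∀ {τ : Type} (x y : polyObj R τ ⟶ A), sv (F x y) = MvPolynomial.aeval ![pv x, pv y] h :=
    fun {τ} x y => by
      obtain ⟨j, hj⟩ := exists_toPoly (σ := Fin 2) ![x, y]
      rw [show F x y = (gmSh (bS R)).obj.map j.op (F X₀ X₁) by rw [hFnat, hj, hj]; rfl]
      exact sv_map j _ (fun i => by rw [hj]; fin_cases i <;> rfl) _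
  have hcz : GaSplit.IsCoc h := by
    refine ⟨?_, ?_, ?_⟩
    · have e := congrArg sv (hFone X₀)
      rwa [sv_zero, heval, pv_polyX, pv_one] at e
    · have e := congrArg sv (hFsymm X₀ X₁)
      rwa [heval, pv_polyX, pv_polyX] at e
    · have e := congrArg sv (hFcoc (polyX R (0 : Fin 3)) (polyX R 1) (polyX R 2))
      rw [sv_add, sv_add, heval, heval, heval, heval, pv_mul, pv_mul, pv_polyX, pv_polyX, pv_polyX] at e
      exact e
  obtain ⟨q, hq, hqe⟩ := GaSplit.exists_split (CharP.cast_eq_zero R p) hF (isUnit_sv _) hcz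
  obtain ⟨φ₁, hφ₁⟩ : ∃ x : (gmSh (bS R)).obj.obj (op (polyObj R Unit)),
      sv x = Polynomial.aeval (MvPolynomial.X () : MvPolynomial Unit R) q := by
    obtain ⟨x, hx⟩ := exists_gmVal (S := bS R) (f := polyBase R Unit) _ (hq.map (Polynomial.aeval _))
    exact ⟨ULift.up (Additive.ofMul x), hx⟩
  obtain ⟨e, he⟩ := exists_gaIso R
  let φ := (gmSh (bS R)).obj.map e.hom.op φ₁
  have hφ : ∀ {τ : Type} (x : polyObj R τ ⟶ A),
      sv ((gmSh (bS R)).obj.map x.op φ) = Polynomial.aeval (pv x) q := fun {τ} x => by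
    rw [map_map, sv_map (x ≫ e.hom) (fun _ => pv x) (fun i => by
      rw [Category.assoc, show polyX R i = e.inv from he.symm, e.hom_inv_id, Category.comp_id]), hφ₁,
      ← Polynomial.aeval_algHom_apply, MvPolynomial.aeval_X]
  clear_value φ
  have huniv : (gmSh (bS R)).obj.map (X₀ * X₁).op φ =
      (gmSh (bS R)).obj.map X₀.op φ + (gmSh (bS R)).obj.map X₁.op φ + F X₀ X₁ := sv_injective (by
    rw [sv_add, sv_add, hφ, hφ, hφ]
    rw [pv_mul, pv_polyX, pv_polyX]
    exact hqe)
  refine exists_splitting (w := w) (s₀ - f.hom.app (op A) φ) ?_ fun {T} x y => ?_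
  · rw [map_sub, hgs₀, show g.hom.app (op A) (f.hom.app (op A) φ) = 0 from congr(($w).hom.app (op A) φ), sub_zero]
  · obtain ⟨j, hj⟩ := exists_toPoly (σ := Fin 2) ![x, y]
    have e0 : j ≫ X₀ = x := hj 0
    have e1 : j ≫ X₁ = y := hj 1
    have e2 := congrArg ((gmSh (bS R)).obj.map j.op) huniv
    rw [map_add, map_add, map_map, map_map, map_map, MonObj.comp_mul, hFnat, e0, e1] at e2
    have e3 := congrArg (f.hom.app (op T)) e2
    rw [map_add, map_add, hF', app_map, app_map, app_map] at e3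
    rw [map_sub, map_sub, map_sub, e3]
    abel

/-- `Ext¹` of the additive by the multiplicative group when Frobenius is surjective. -/
theorem subsingleton_ext_frobenius (p : ℕ) [Fact p.Prime] [CharP R p] (hF : Function.Surjective (frobenius R p)) :
    Subsingleton (Ext.{u + 1} (gaSh (bS R)) (gmSh (bS R)) 1) := by
  refine subsingleton_of_forall_eq 0 fun ξ => ?_
  obtain ⟨M, f, g, w, hS, rfl⟩ := ExtOneLib.exists_extension ξ
  obtain ⟨σ, hσ⟩ := splits_of_frobenius p hF hS
  calc hS.extClass = (Ext.mk₀ (σ ≫ g)).comp hS.extClass (zero_add 1) := by rw [hσ, Ext.mk₀_id_comp]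
    _ = (Ext.mk₀ σ).comp ((Ext.mk₀ g).comp hS.extClass (zero_add 1)) (zero_add 1) := by
      rw [← Ext.mk₀_comp_mk₀, Ext.comp_assoc_of_second_deg_zero]
    _ = 0 := by
      erw [hS.comp_extClass, Ext.comp_zero]

end Groth.Agent.GaDualLib
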