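import Groth.Prelude.Def_BigSite
import Groth.Agent.InvDescLib.RelPic

/-!
# Local lifts along epimorphisms of fppf sheaves by a single covering morphism
-/

set_option autoImplicit false
set_option backward.isDefEq.respectTransparency false
set_option backward.isDefEq.respectTransparency.types false
set_option linter.style.haveILetI false

universe u

open CategoryTheory CategoryTheory.Limits AlgebraicGeometry Opposite TopologicalSpace

noncomputable section

namespace Groth.Agent.GaDualLib

local notation "Jf" => QuotSh.J Scheme.fppfPrecoverage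

variable {S : Scheme.{u}}

theorem map_map {F : BigSite.Ab Scheme.fppfPrecoverage S} {X Y Z : Over S} (f : X ⟶ Y) (g : Y ⟶ Z)
    (z : F.obj.obj (op Z)) : F.obj.map f.op (F.obj.map g.op z) = F.obj.map (f ≫ g).op z := by
  rw [← ConcreteCategory.comp_apply, ← F.obj.map_comp, ← op_comp]

theorem isSheaf_types (F : BigSite.Ab Scheme.fppfPrecoverage S) :
    Presieve.IsSheaf (Jf S) (F.obj ⋙ forget AddCommGrpCat.{u + 1}) :=
  (isSheaf_iff_isSheaf_of_type _ _).1
    ((Presheaf.isSheaf_iff_isSheaf_forget _ F.obj (forget AddCommGrpCat.{u + 1})).1 F.property)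

/-- A covering morphism. -/
def IsCov {T' T : Over S} (g : T' ⟶ T) : Prop :=
  Flat g.left ∧ LocallyOfFinitePresentation g.left ∧ Surjective g.left

theorem IsCov.mem {T' T : Over S} {g : T' ⟶ T} (hg : IsCov g) :
    Sieve.generate (Presieve.singleton g) ∈ Jf S T := by
  show Sieve.overEquiv T _ ∈ Scheme.fppfTopology T.left
  haveI := hg.1; haveI := hg.2.1; haveI := hg.2.2
  refine GrothendieckTopology.superset_covering _ ?_
    (Precoverage.generate_mem_toGrothendieck g.left.singleton_mem_fppfPrecoverage)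
  rw [Sieve.generate_le_iff]
  rintro Z _ ⟨⟩
  refine (Sieve.overEquiv_iff _ _).2 ⟨_,
    Over.homMk (U := Over.mk (g.left ≫ T.hom)) (V := T') (𝟙 _) ((Category.id_comp _).trans (Over.w g).symm), g, ⟨⟩,
    Over.OverMorphism.ext (Category.id_comp _)⟩

/-- Unique descent of sections along a covering morphism. -/
theorem existsUnique_descent (F : BigSite.Ab Scheme.fppfPrecoverage S) {T' T : Over S} {g : T' ⟶ T} (hg : IsCov g)
    (x : F.obj.obj (op T')) (hx : ∀ {Z : Over S} (a b : Z ⟶ T'), a ≫ g = b ≫ g → F.obj.map a.op x = F.obj.map b.op x) :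
    ∃! y, F.obj.map g.op y = x :=
  Presieve.isSheafFor_singleton.1 ((Presieve.isSheafFor_iff_generate _).2 (isSheaf_types F _ hg.mem)) x
    (fun a b h => hx a b h)

theorem eq_of_map_eq (F : BigSite.Ab Scheme.fppfPrecoverage S) {T' T : Over S} {g : T' ⟶ T} (hg : IsCov g)
    {y y' : F.obj.obj (op T)} (h : F.obj.map g.op y = F.obj.map g.op y') : y = y' :=
  (existsUnique_descent F hg (F.obj.map g.op y) fun a b e => by rw [map_map, map_map, e]).unique rfl h.symm

/-- Sections on the members of a disjoint union glue. -/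
theorem exists_sigma_sect (F : BigSite.Ab Scheme.fppfPrecoverage S) {ι : Type u} (Z : Over S) (U : ι → Over S)
    (ζ : ∀ i, U i ⟶ Z) (e : Z.left = ∐ fun i => (U i).left)
    (hζ : ∀ i, (ζ i).left ≫ eqToHom e = Sigma.ι (fun i => (U i).left) i) (x : ∀ i, F.obj.obj (op (U i))) :
    ∃ z, ∀ i, F.obj.map (ζ i).op z = x i := by
  obtain ⟨ZL, Zr, Zh⟩ := Z
  change ZL = _ at e
  subst e
  simp only [eqToHom_refl, Category.comp_id] at hζ
  have hcov : Sieve.ofArrows U ζ ∈ (Jf S) _ := by
    rw [GrothendieckTopology.mem_over_iff]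
    refine GrothendieckTopology.superset_covering _ ?_
      (Precoverage.generate_mem_toGrothendieck
        (Scheme.zariskiPrecoverage_le_fppfPrecoverage _ (sigmaOpenCover fun i => (U i).left).mem₀))
    rw [Sieve.generate_le_iff]
    rintro _ _ ⟨i⟩
    exact ⟨U i, ζ i, 𝟙 _, Sieve.ofArrows_mk _ _ i, ((Category.id_comp _).trans (hζ i)).symm⟩
  have hF' : Presieve.IsSheafFor (F.obj ⋙ forget AddCommGrpCat.{u + 1}) (Presieve.ofArrows U ζ) :=
    (Presieve.isSheafFor_iff_generate _).2 (isSheaf_types F _ hcov)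
  obtain ⟨t, ht, -⟩ := (Presieve.isSheafFor_arrows_iff _ _).1 hF' x (by
      intro i j W gi gj hij
      by_cases h : i = j
      · subst h
        have : Mono (ζ i) := by
          have : Mono (ζ i).left := by rw [hζ i]; infer_instance
          exact Over.mono_of_mono_left _
        rw [(cancel_mono (ζ i)).1 hij]
      · have : IsEmpty W.left := isEmpty_of_commSq_sigmaι_of_ne
          (g := fun i => (U i).left) (a := gi.left) (b := gj.left)
          ⟨by rw [← hζ i, ← hζ j]; exact congrArg CommaMorphism.left hij⟩ h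
        have hbot : ⊥ ∈ (Jf S) W := by
          rw [GrothendieckTopology.mem_over_iff]
          exact GrothendieckTopology.superset_covering _ bot_le
            (Precoverage.toGrothendieck_mono Scheme.zariskiPrecoverage_le_fppfPrecoverage _
              (Scheme.bot_mem_grothendieckTopology W.left))
        haveI := AddCommGrpCat.subsingleton_of_isZero
          ((isZero_zero AddCommGrpCat.{u + 1}).of_iso ((F.isTerminalOfBotCover W hbot).uniqueUpToIso HasZeroObject.zeroIsTerminal))
        exact @Subsingleton.elim (F.obj.obj (op W)) this _ _)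
  exact ⟨t, ht⟩

/-- A section of the target of an epimorphism lifts after a covering morphism. -/
theorem exists_lift {F G : BigSite.Ab Scheme.fppfPrecoverage S} (φ : F ⟶ G) [Epi φ] {T : Over S}
    (z : G.obj.obj (op T)) :
    ∃ (T' : Over S) (g : T' ⟶ T), IsCov g ∧ ∃ t, φ.hom.app (op T') t = G.obj.map g.op z := by
  haveI : Presheaf.IsLocallySurjective (Jf S) φ.hom :=
    (Sheaf.isLocallySurjective_iff_epi' AddCommGrpCat.{u + 1} φ).2 inferInstance
  have hR := Presheaf.imageSieve_mem (Jf S) φ.hom (U := op T) z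
  haveI : Scheme.fppfPrecoverage.{u}.HasIsos := ⟨fun f _ => Scheme.Hom.singleton_mem_fppfPrecoverage f⟩
  rw [GrothendieckTopology.mem_over_iff, Precoverage.mem_toGrothendieck_iff_of_isStableUnderComposition] at hR
  obtain ⟨P, hP, hPR⟩ := hR
  obtain ⟨ι, W, v, hv, h₁, h₂, h₃⟩ := InvDescLib.exists_small_cover hP
  let U : ι → Over S := fun i => Over.mk (v i ≫ T.hom)
  have hl : ∀ i, ∃ t : F.obj.obj (op (U i)),
      φ.hom.app (op (U i)) t = G.obj.map (Over.homMk (v i) rfl : U i ⟶ T).op z :=
    fun i => (Sieve.overEquiv_iff _ (v i)).1 (hPR _ _ (hv i))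
  choose t ht using hl
  let Z : Over S := Over.mk (Sigma.desc v ≫ T.hom)
  let ζ : ∀ i, U i ⟶ Z := fun i => Over.homMk (Sigma.ι W i) (by
    show Sigma.ι W i ≫ Sigma.desc v ≫ T.hom = v i ≫ T.hom
    rw [Sigma.ι_desc_assoc])
  have hζ : ∀ i, (ζ i).left ≫ eqToHom (rfl : Z.left = ∐ W) = Sigma.ι W i := fun i => Category.comp_id _
  obtain ⟨s, hs⟩ := exists_sigma_sect F Z U ζ rfl hζ t
  let g : Z ⟶ T := Over.homMk (Sigma.desc v) rfl
  refine ⟨Z, g, ⟨h₁, h₂, h₃⟩, s, ?_⟩
  have hζg : ∀ i, ζ i ≫ g = (Over.homMk (v i) rfl : U i ⟶ T) := fun i =>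
    Over.OverMorphism.ext (Sigma.ι_desc (f := W) v i)
  have hcov : Sieve.ofArrows U ζ ∈ (Jf S) Z := by
    rw [GrothendieckTopology.mem_over_iff]
    refine GrothendieckTopology.superset_covering _ ?_
      (Precoverage.generate_mem_toGrothendieck
        (Scheme.zariskiPrecoverage_le_fppfPrecoverage _ (sigmaOpenCover W).mem₀))
    rw [Sieve.generate_le_iff]
    rintro _ _ ⟨i⟩
    exact ⟨U i, ζ i, 𝟙 _, Sieve.ofArrows_mk _ _ i, ((Category.id_comp _).trans (hζ i)).symm⟩
  refine ((Presieve.isSheafFor_iff_generate _).2 (isSheaf_types G _ hcov)).isSeparatedFor.ext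
    (R := Presieve.ofArrows U ζ) ?_
  rintro _ _ ⟨i⟩
  show G.obj.map (ζ i).op (φ.hom.app (op Z) s) = G.obj.map (ζ i).op (G.obj.map g.op z)
  rw [← NatTrans.naturality_apply, hs, ht, map_map, hζg]

end Groth.Agent.GaDualLib
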