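import Groth.Agent.InvDescLib.Effective

/-!
# Unit cocycles of a covering are coboundaries when all invertible modules on the base are trivial
-/

set_option autoImplicit false
set_option backward.isDefEq.respectTransparency false
set_option backward.isDefEq.respectTransparency.types false
set_option linter.style.haveILetI false

universe u

open CategoryTheory CategoryTheory.Limits AlgebraicGeometry TopologicalSpace
open Groth.Agent.SchDesc Groth.Agent.ParaFLib Groth.Agent.InvDescLib

noncomputable section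

namespace Groth.Agent.GaDualLib

variable {X' X : Scheme.{u}} (g : X' ⟶ X)

theorem res_res_ring {U V W : X.Opens} (h : V ≤ U) (h' : W ≤ V) (x : Γ(X, U)) :
    X.presheaf.map (homOfLE h').op (X.presheaf.map (homOfLE h).op x) = X.presheaf.map (homOfLE (h'.trans h)).op x := by
  rw [← CommRingCat.comp_apply, ← X.presheaf.map_comp]
  rfl

/-- A generator of the structure module is a unit. -/
theorem isUnit_of_gen {W : X.Opens} {e : Γ(Coh.structureModule X, W)} (he : Gen W e) :
    IsUnit (show Γ(X, W) from e) := by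
  obtain ⟨r, hr⟩ := (he W le_rfl).2 (show Γ(Coh.structureModule X, W) from (1 : Γ(X, W)))
  refine .of_mul_eq_one r ?_
  refine (_root_.mul_comm _ _).trans (Eq.trans ?_ hr)
  have hres : (Coh.structureModule X).presheaf.map (homOfLE (le_refl W)).op e = e := res_self' le_rfl e
  change _ = r • (Coh.structureModule X).presheaf.map (homOfLE (le_refl W)).op e
  rw [hres]
  rfl

/-- A unit cocycle of a covering gives a Zariski cocycle on the base. -/
theorem exists_zariski_cocycle [IsFpqc g] {u : Γ(pullback g g, ⊤)} (hu : IsUnit u) (hc : Cocycle g u) :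
    ∃ (D : X → X.Opens) (k : ∀ y, Γ(X', g ⁻¹ᵁ D y)) (c : ∀ y y' : X, (Γ(X, D y ⊓ D y'))ˣ), (∀ y, y ∈ D y) ∧
      (∀ y, IsUnit (k y)) ∧
      (∀ (y : X) (T : Scheme.{u}) (a b : T ⟶ X') (ea : ∀ t, a t ∈ g ⁻¹ᵁ D y) (eb : ∀ t, b t ∈ g ⁻¹ᵁ D y)
        (w : a ≫ g = b ≫ g), val2 g u a b w * ev a ea (k y) = ev b eb (k y)) ∧
      ParaFLib.IsCocycle D c ∧
      ∀ y y', g.app (D y ⊓ D y') (c y y') * X'.presheaf.map (homOfLE (g.preimage_mono inf_le_right)).op (k y') =
        X'.presheaf.map (homOfLE (g.preimage_mono inf_le_left)).op (k y) := by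
  choose D hxD k hk hkeq using exists_local_unit_of_cocycle g hu hc
  have nat : ∀ {U V : X.Opens} (h : V ≤ U) (r : Γ(X, U)),
      g.app V (X.presheaf.map (homOfLE h).op r) = X'.presheaf.map (homOfLE (g.preimage_mono h)).op (g.app U r) :=
    fun {U V} h r => ConcreteCategory.congr_hom (g.naturality (homOfLE h).op) r
  have hη : ∀ y y' : X, ∃ c : Γ(X, D y ⊓ D y'), IsUnit c ∧
      g.app (D y ⊓ D y') c * X'.presheaf.map (homOfLE (g.preimage_mono inf_le_right)).op (k y') =
        X'.presheaf.map (homOfLE (g.preimage_mono inf_le_left)).op (k y) := by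
    intro y y'
    let U := D y ⊓ D y'
    let A : Γ(X', g ⁻¹ᵁ U) := X'.presheaf.map (homOfLE (g.preimage_mono (inf_le_left : U ≤ D y))).op (k y)
    let B : Γ(X', g ⁻¹ᵁ U) := X'.presheaf.map (homOfLE (g.preimage_mono (inf_le_right : U ≤ D y'))).op (k y')
    have hB : IsUnit B := (hk y').map _
    have hA : IsUnit A := (hk y).map _
    obtain ⟨B', hB'⟩ := isUnit_iff_exists_inv.1 hB
    obtain ⟨c, hc'⟩ := exists_fun g (A * B') fun T a b ea eb w => by
      have hA' : A * B' * B = A := by rw [_root_.mul_assoc, _root_.mul_comm B' B, hB', _root_.mul_one]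
      have h1 := hkeq y T a b (fun t => (ea t).1) (fun t => (eb t).1) w
      have h2 := hkeq y' T a b (fun t => (ea t).2) (fun t => (eb t).2) w
      have ea1 : ev a ea A = ev a (fun t => (ea t).1) (k y) := ev_res _ _ _ _
      have ea2 : ev a ea B = ev a (fun t => (ea t).2) (k y') := ev_res _ _ _ _
      have eb1 : ev b eb A = ev b (fun t => (eb t).1) (k y) := ev_res _ _ _ _
      have eb2 : ev b eb B = ev b (fun t => (eb t).2) (k y') := ev_res _ _ _ _
      refine (hB.map (ev b eb)).mul_right_cancel ?_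
      calc ev a ea (A * B') * ev b eb B = val2 g u a b w * (ev a ea (A * B') * ev a ea B) := by
            rw [eb2, ← h2, ea2]; ring
        _ = ev b eb (A * B') * ev b eb B := by rw [← map_mul, ← map_mul, hA', ea1, h1, eb1]
    refine ⟨c, ?_, ?_⟩
    · refine RingedSpace.isUnit_of_isUnit_germ _ _ c fun x hx => ?_
      obtain ⟨z, rfl⟩ := g.surjective x
      have h1 : z ∈ X'.basicOpen (g.app _ c) := by
        rw [hc']
        exact (X'.toRingedSpace.mem_basicOpen _ z hx).2 ((hA.mul (.of_mul_eq_one B ((_root_.mul_comm _ _).trans hB'))).map _)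
      rw [← Scheme.preimage_basicOpen] at h1
      exact (X.toRingedSpace.mem_basicOpen c (g z) hx).1 h1
    · rw [hc']
      show A * B' * B = A
      rw [_root_.mul_assoc, _root_.mul_comm B' B, hB', _root_.mul_one]
  choose c hcu hcc using hη
  let η : ∀ y y' : X, (Γ(X, D y ⊓ D y'))ˣ := fun y y' => (hcu y y').unit
  have hco : ParaFLib.IsCocycle D η := by
    intro i j l
    apply app_injective g
    refine ((hk l).map (X'.presheaf.map (homOfLE (g.preimage_mono (inf_le_right : D i ⊓ D j ⊓ D l ≤ D l))).op).hom).mul_right_cancel ?_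
    rw [map_mul, nat, nat, nat]
    have e : ∀ (p q : X) (hpq : g ⁻¹ᵁ (D i ⊓ D j ⊓ D l) ≤ g ⁻¹ᵁ (D p ⊓ D q)),
        X'.presheaf.map (homOfLE hpq).op (g.app _ (c p q)) *
          X'.presheaf.map (homOfLE (hpq.trans (g.preimage_mono inf_le_right))).op (k q) =
        X'.presheaf.map (homOfLE (hpq.trans (g.preimage_mono inf_le_left))).op (k p) := fun p q hpq => by
      have := congrArg (X'.presheaf.map (homOfLE hpq).op) (hcc p q)
      rw [map_mul, res_res_ring, res_res_ring] at this
      exact this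
    show X'.presheaf.map _ (g.app _ (c i l)) * _ = X'.presheaf.map _ (g.app _ (c i j)) * X'.presheaf.map _ (g.app _ (c j l)) * _
    rw [_root_.mul_assoc]
    exact (e i l (g.preimage_mono (le_inf (inf_le_left.trans inf_le_left) inf_le_right))).trans
      ((e i j (g.preimage_mono (le_inf (inf_le_left.trans inf_le_left) (inf_le_left.trans inf_le_right)))).symm.trans
        (congrArg (_ * ·) (e j l (g.preimage_mono (le_inf (inf_le_left.trans inf_le_right) inf_le_right))).symm))
  exact ⟨D, k, η, hxD, hk, hkeq, hco, hcc⟩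

/-- A Zariski coboundary makes a unit cocycle a coboundary. -/
theorem exists_coboundary_of_bases [IsFpqc g] {u : Γ(pullback g g, ⊤)} {D : X → X.Opens}
    {k : ∀ y, Γ(X', g ⁻¹ᵁ D y)} {c : ∀ y y' : X, Γ(X, D y ⊓ D y')} (hxD : ∀ y, y ∈ D y) (hk : ∀ y, IsUnit (k y))
    (hkeq : ∀ (y : X) (T : Scheme.{u}) (a b : T ⟶ X') (ea : ∀ t, a t ∈ g ⁻¹ᵁ D y) (eb : ∀ t, b t ∈ g ⁻¹ᵁ D y)
        (w : a ≫ g = b ≫ g), val2 g u a b w * ev a ea (k y) = ev b eb (k y))
    (hcc : ∀ y y', g.app (D y ⊓ D y') (c y y') * X'.presheaf.map (homOfLE (g.preimage_mono inf_le_right)).op (k y') =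
        X'.presheaf.map (homOfLE (g.preimage_mono inf_le_left)).op (k y))
    {e : ∀ y, Γ(X, D y)} (he : ∀ y, IsUnit (e y))
    (hee : ∀ y y', X.presheaf.map (homOfLE inf_le_left).op (e y) =
      c y y' * X.presheaf.map (homOfLE inf_le_right).op (e y')) :
    ∃ k : Γ(X', ⊤), IsUnit k ∧
      ∀ (T : Scheme.{u}) (a b : T ⟶ X') (w : a ≫ g = b ≫ g), val2 g u a b w * a.appTop k = b.appTop k := by
  have nat : ∀ {U V : X.Opens} (h : V ≤ U) (r : Γ(X, U)),
      g.app V (X.presheaf.map (homOfLE h).op r) = X'.presheaf.map (homOfLE (g.preimage_mono h)).op (g.app U r) :=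
    fun {U V} h r => ConcreteCategory.congr_hom (g.naturality (homOfLE h).op) r
  choose e' he' using fun y => isUnit_iff_exists_inv.1 (he y)
  have hX : ∀ y, g.app (D y) (e y) * g.app (D y) (e' y) = 1 := fun y => by rw [← map_mul, he', map_one]
  let kk : ∀ y, Γ(X', g ⁻¹ᵁ D y) := fun y => k y * g.app (D y) (e' y)
  have hcompat : ∀ y y', X'.presheaf.map (homOfLE (g.preimage_mono (inf_le_left : D y ⊓ D y' ≤ D y))).op (kk y) =
      X'.presheaf.map (homOfLE (g.preimage_mono (inf_le_right : D y ⊓ D y' ≤ D y'))).op (kk y') := fun y y' => by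
    have h1 := congrArg (g.app (D y ⊓ D y')) (hee y y')
    rw [map_mul, nat, nat] at h1
    have h2 := hcc y y'
    have p1 := congrArg (X'.presheaf.map (homOfLE (g.preimage_mono (inf_le_left : D y ⊓ D y' ≤ D y))).op) (hX y)
    have p2 := congrArg (X'.presheaf.map (homOfLE (g.preimage_mono (inf_le_right : D y ⊓ D y' ≤ D y'))).op) (hX y')
    simp only [kk, map_mul, map_one] at p1 p2 ⊢
    generalize X'.presheaf.map (homOfLE (g.preimage_mono (inf_le_left : D y ⊓ D y' ≤ D y))).op (g.app _ (e' y)) = a₁ at *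
    generalize X'.presheaf.map (homOfLE (g.preimage_mono (inf_le_right : D y ⊓ D y' ≤ D y'))).op (g.app _ (e' y')) = a₂ at *
    rw [h1] at p1
    rw [← h2]
    linear_combination (X'.presheaf.map (homOfLE (g.preimage_mono (inf_le_right : D y ⊓ D y' ≤ D y'))).op (k y') * a₂) * p1 -
      (g.app _ (c y y') * X'.presheaf.map (homOfLE (g.preimage_mono (inf_le_right : D y ⊓ D y' ≤ D y'))).op (k y') * a₁) * p2
  let O : X → X'.Opens := fun y => g ⁻¹ᵁ D y
  have hcov' : (⊤ : X'.Opens) ≤ iSup O := fun z _ => Opens.mem_iSup.2 ⟨g z, hxD (g z)⟩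
  obtain ⟨K, hK, -⟩ := X'.sheaf.existsUnique_gluing' O ⊤ (fun y => homOfLE le_top) hcov' kk fun y y' => hcompat y y'
  replace hK : ∀ y, X'.presheaf.map (homOfLE (le_top : O y ≤ ⊤)).op K = kk y := hK
  refine ⟨K, ?_, fun T a b w => ?_⟩
  · refine RingedSpace.isUnit_of_isUnit_germ _ _ K fun z _ => ?_
    have hz : z ∈ O (g z) := hxD (g z)
    have := ((hk (g z)).mul (.of_mul_eq_one (g.app (D (g z)) (e (g z))) ((_root_.mul_comm _ _).trans (hX _)))).map
      (X'.presheaf.germ (O (g z)) z hz).hom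
    rw [show k (g z) * g.app (D (g z)) (e' (g z)) = X'.presheaf.map (homOfLE (le_top : O (g z) ≤ ⊤)).op K from
      (hK (g z)).symm] at this
    erw [TopCat.Presheaf.germ_res_apply] at this
    exact this
  · refine eq_of_forall_restrict (fun y : X => a ⁻¹ᵁ O y) (iSup_eq_top _ fun t => ⟨g (a t), hxD _⟩) fun y => ?_
    let j := (a ⁻¹ᵁ O y).ι
    have w' : (j ≫ a) ≫ g = (j ≫ b) ≫ g := by rw [Category.assoc, w, Category.assoc]
    have ea : ∀ t, (j ≫ a) t ∈ g ⁻¹ᵁ D y := fun t => t.2
    have eb : ∀ t, (j ≫ b) t ∈ g ⁻¹ᵁ D y := fun t => by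
      show g ((j ≫ b) t) ∈ D y
      rw [← Scheme.Hom.comp_apply, ← w', Scheme.Hom.comp_apply]
      exact t.2
    have evK : ∀ (c : (a ⁻¹ᵁ O y : Scheme.{u}) ⟶ X') (ec : ∀ t, c t ∈ g ⁻¹ᵁ D y),
        c.appTop K = ev c ec (k y) * ev c ec (g.app (D y) (e' y)) := fun c ec => by
      rw [← map_mul, ← show X'.presheaf.map (homOfLE (le_top : O y ≤ ⊤)).op K = k y * g.app (D y) (e' y) from hK y,
        ev_res, ev_top]
    rw [map_mul, ← CommRingCat.comp_apply, ← CommRingCat.comp_apply, ← Scheme.Hom.comp_appTop, ← Scheme.Hom.comp_appTop,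
      val2_comp g u j a b w _ _ rfl rfl w', evK _ ea, evK _ eb, ← hkeq y _ (j ≫ a) (j ≫ b) ea eb w',
      show ev (j ≫ b) eb (g.app (D y) (e' y)) = ev (j ≫ a) ea (g.app (D y) (e' y)) from
        (ev_app (j ≫ b) g eb (fun t => eb t) _).trans ((ev_congr w'.symm _ (fun t => ea t) _).trans (ev_app (j ≫ a) g ea _ _).symm)]
    ring

/-- A unit cocycle of a covering is the coboundary of a unit, once invertible modules on the base are trivial. -/
theorem exists_coboundary [IsFpqc g]
    (hPic : ∀ L : X.Modules, PicF.IsInvertible L → Nonempty (L ≅ Coh.structureModule X))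
    {u : Γ(pullback g g, ⊤)} (hu : IsUnit u) (hc : Cocycle g u) :
    ∃ k : Γ(X', ⊤), IsUnit k ∧
      ∀ (T : Scheme.{u}) (a b : T ⟶ X') (w : a ≫ g = b ≫ g), val2 g u a b w * a.appTop k = b.appTop k := by
  obtain ⟨D, k, η, hxD, hk, hkeq, hco, hcc⟩ := exists_zariski_cocycle g hu hc
  have hcov : iSup D = ⊤ := iSup_eq_top _ fun y => ⟨y, hxD y⟩
  obtain ⟨M, s, hM, hs, hst⟩ := exists_invertible_of_cocycle D η hcov hco
  obtain ⟨φ⟩ := hPic M hM
  let e : ∀ y, Γ(X, D y) := fun y => φ.hom.app (D y) (s y)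
  have he : ∀ y, IsUnit (e y) := fun y => isUnit_of_gen (gen_of_iso φ (hs y))
  have hee : ∀ y y', X.presheaf.map (homOfLE inf_le_left).op (e y) =
      (η y y' : Γ(X, D y ⊓ D y')) * X.presheaf.map (homOfLE inf_le_right).op (e y') := fun y y' => by
    have h := congrArg (φ.hom.app (D y ⊓ D y')) (hst y y')
    rw [Scheme.Modules.Hom.app_smul, app_res, app_res] at h
    exact h
  exact exists_coboundary_of_bases g hxD hk hkeq hcc he hee

end Groth.Agent.GaDualLib
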