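import Groth.Prelude.Def_CGrpSh2
import Groth.Agent.GmTorsor.Points
import Groth.Agent.GaDualLib.Cover
import Groth.Agent.GaDualLib.UnitH1
import Groth.Agent.GaGmHom

/-!
# Sections of the multiplicative group, and coboundaries along a covering morphism
-/

set_option autoImplicit false
set_option backward.isDefEq.respectTransparency false
set_option backward.isDefEq.respectTransparency.types false
set_option linter.style.haveILetI false

universe u

open CategoryTheory CategoryTheory.Limits AlgebraicGeometry Opposite MonoidalCategory CartesianMonoidalCategory MonObj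
open Groth.Agent.InvDescLib

noncomputable section

namespace Groth.Agent.GaDualLib

local notation "Jf" => QuotSh.J Scheme.fppfPrecoverage

variable {S : Scheme.{u}}

/-- The sheaf of the multiplicative group. -/
abbrev gmSh (S : Scheme.{u}) : BigSite.Ab Scheme.fppfPrecoverage S := CGrpSh2.Gm Scheme.fppfPrecoverage S

/-- The sheaf of the additive group. -/
abbrev gaSh (S : Scheme.{u}) : BigSite.Ab Scheme.fppfPrecoverage S := CGrpSh2.Ga Scheme.fppfPrecoverage S

/-- The unit of a section of the multiplicative group. -/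
def gv {T : Over S} (x : (gmSh S).obj.obj (op T)) : Γ(T.left, ⊤) := Red.gmFn x.down.toMul

theorem gv_add {T : Over S} (x y : (gmSh S).obj.obj (op T)) : gv (x + y) = gv x * gv y :=
  GmTorsor.gmFn_mul x.down.toMul y.down.toMul

theorem gv_map {T T' : Over S} (f : T' ⟶ T) (x : (gmSh S).obj.obj (op T)) :
    gv ((gmSh S).obj.map f.op x) = f.left.appTop (gv x) :=
  GaGmHom.gmFn_comp f x.down.toMul

theorem gv_injective {T : Over S} : Function.Injective (gv (S := S) (T := T)) := fun x y h =>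
  ULift.ext _ _ (Additive.toMul.injective (GaGmHom.gmFn_injective h))

theorem isUnit_gv {T : Over S} (x : (gmSh S).obj.obj (op T)) : IsUnit (gv x) := GaGmHom.isUnit_gmFn _

theorem exists_gv {T : Over S} {z : Γ(T.left, ⊤)} (hz : IsUnit z) : ∃ x : (gmSh S).obj.obj (op T), gv x = z := by
  obtain ⟨t, ht⟩ := GmTorsor.gmFn_surjective (X := T) z hz
  exact ⟨ULift.up (Additive.ofMul t), ht⟩

/-- The function of a cocycle of sections of the multiplicative group along a covering morphism. -/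
theorem exists_cocycle_unit {T' T : Over S} {g : T' ⟶ T} (hg : IsCov g)
    (d : ∀ {Z : Over S} (a b : Z ⟶ T'), a ≫ g = b ≫ g → (gmSh S).obj.obj (op Z))
    (hnat : ∀ {Z Z' : Over S} (f : Z' ⟶ Z) (a b : Z ⟶ T') (w : a ≫ g = b ≫ g) (w' : (f ≫ a) ≫ g = (f ≫ b) ≫ g),
      (gmSh S).obj.map f.op (d a b w) = d (f ≫ a) (f ≫ b) w')
    (hcoc : ∀ {Z : Over S} (a b c : Z ⟶ T') (w₁ : a ≫ g = b ≫ g) (w₂ : b ≫ g = c ≫ g),
      d a b w₁ + d b c w₂ = d a c (w₁.trans w₂)) :
    ∃ u : Γ(pullback g.left g.left, ⊤), IsUnit u ∧ Cocycle g.left u ∧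
      ∀ {Z : Over S} (a b : Z ⟶ T') (w : a ≫ g = b ≫ g),
        val2 g.left u a.left b.left (congrArg CommaMorphism.left w) = gv (d a b w) := by
  haveI := hg.1; haveI := hg.2.1; haveI := hg.2.2
  haveI : SchDesc.IsFpqc g.left := SchDesc.IsFpqc.of_locallyOfFinitePresentation g.left
  let P : Over S := Over.mk (pullback.fst g.left g.left ≫ T'.hom)
  let p₁ : P ⟶ T' := Over.homMk (pullback.fst g.left g.left) rfl
  let p₂ : P ⟶ T' := Over.homMk (pullback.snd g.left g.left) (by
    show pullback.snd g.left g.left ≫ T'.hom = pullback.fst g.left g.left ≫ T'.hom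
    rw [← Over.w g, pullback.condition_assoc])
  have wp : p₁ ≫ g = p₂ ≫ g := Over.OverMorphism.ext pullback.condition
  let u := gv (d p₁ p₂ wp)
  have hd : ∀ {Z : Over S} {a a' b b' : Z ⟶ T'} (_ : a = a') (_ : b = b') (w : a ≫ g = b ≫ g) (w' : a' ≫ g = b' ≫ g),
      d a b w = d a' b' w' := fun {Z a a' b b'} ha hb w w' => by subst ha hb; rfl
  have hval : ∀ {Z : Over S} (a b : Z ⟶ T') (w : a ≫ g = b ≫ g),
      val2 g.left u a.left b.left (congrArg CommaMorphism.left w) = gv (d a b w) := fun {Z} a b w => by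
    let l : Z ⟶ P := Over.homMk (pullback.lift a.left b.left (congrArg CommaMorphism.left w)) (by
      show pullback.lift _ _ _ ≫ pullback.fst g.left g.left ≫ T'.hom = Z.hom
      rw [pullback.lift_fst_assoc, Over.w])
    have e₁ : l ≫ p₁ = a := Over.OverMorphism.ext (pullback.lift_fst _ _ _)
    have e₂ : l ≫ p₂ = b := Over.OverMorphism.ext (pullback.lift_snd _ _ _)
    have := gv_map l (d p₁ p₂ wp)
    rw [hnat l p₁ p₂ wp (by rw [e₁, e₂]; exact w)] at this
    rw [hd e₁ e₂ _ w] at this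
    exact this.symm
  have hc : Cocycle g.left u := fun Z a b c w₁ w₂ => by
    let Z₀ : Over S := Over.mk (a ≫ T'.hom)
    have hw : ∀ {x y : Z ⟶ T'.left}, x ≫ g.left = y ≫ g.left → x ≫ T'.hom = y ≫ T'.hom := fun {x y} e => by
      rw [← Over.w g, reassoc_of% e]
    let a' : Z₀ ⟶ T' := Over.homMk a rfl
    let b' : Z₀ ⟶ T' := Over.homMk b (hw w₁).symm
    let c' : Z₀ ⟶ T' := Over.homMk c (hw (w₁.trans w₂)).symm
    have e₁ : a' ≫ g = b' ≫ g := Over.OverMorphism.ext w₁
    have e₂ : b' ≫ g = c' ≫ g := Over.OverMorphism.ext w₂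
    have h₁ := hval a' b' e₁
    have h₂ := hval b' c' e₂
    have h₃ := hval a' c' (e₁.trans e₂)
    exact (congrArg₂ (· * ·) h₁ h₂).trans (((gv_add _ _).symm.trans (congrArg gv (hcoc a' b' c' e₁ e₂))).trans h₃.symm)
  exact ⟨u, isUnit_gv _, hc, fun {Z} a b w => hval a b w⟩

theorem isFpqc_left {T' T : Over S} {g : T' ⟶ T} (hg : IsCov g) : SchDesc.IsFpqc g.left := by
  haveI := hg.1; haveI := hg.2.1; haveI := hg.2.2
  exact SchDesc.IsFpqc.of_locallyOfFinitePresentation g.left

/-- A cocycle of sections of the multiplicative group along a covering morphism is a coboundary, once invertible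
modules on the base are trivial. -/
theorem exists_gm_coboundary {T' T : Over S} {g : T' ⟶ T} (hg : IsCov g)
    (hPic : ∀ L : T.left.Modules, PicF.IsInvertible L → Nonempty (L ≅ Coh.structureModule T.left))
    (d : ∀ {Z : Over S} (a b : Z ⟶ T'), a ≫ g = b ≫ g → (gmSh S).obj.obj (op Z))
    (hnat : ∀ {Z Z' : Over S} (f : Z' ⟶ Z) (a b : Z ⟶ T') (w : a ≫ g = b ≫ g) (w' : (f ≫ a) ≫ g = (f ≫ b) ≫ g),
      (gmSh S).obj.map f.op (d a b w) = d (f ≫ a) (f ≫ b) w')
    (hcoc : ∀ {Z : Over S} (a b c : Z ⟶ T') (w₁ : a ≫ g = b ≫ g) (w₂ : b ≫ g = c ≫ g),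
      d a b w₁ + d b c w₂ = d a c (w₁.trans w₂)) :
    ∃ k : (gmSh S).obj.obj (op T'), ∀ {Z : Over S} (a b : Z ⟶ T') (w : a ≫ g = b ≫ g),
      d a b w + (gmSh S).obj.map a.op k = (gmSh S).obj.map b.op k := by
  haveI := isFpqc_left hg
  obtain ⟨u, hu, hc, hval⟩ := exists_cocycle_unit hg d hnat hcoc
  obtain ⟨k₀, hk₀, hk⟩ := exists_coboundary g.left hPic hu hc
  obtain ⟨k, rfl⟩ := exists_gv hk₀
  refine ⟨k, fun {Z} a b w => gv_injective ?_⟩
  rw [gv_add, gv_map, gv_map, ← hval a b w]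
  exact hk Z.left a.left b.left (congrArg CommaMorphism.left w)

variable [IsReduced S]

/-- Functions from the square of the additive group to the multiplicative group are constant over a reduced base. -/
theorem comp_eq_of_square (φ : Red.Ga S ⊗ Red.Ga S ⟶ Red.Gm S) :
    φ = (1 : Red.Ga S ⊗ Red.Ga S ⟶ Red.Ga S ⊗ Red.Ga S) ≫ φ := by
  let B : Type u := ULift.{u} Bool
  let A : Over S := Over.mk (𝔸(B; S) ↘ S)
  obtain ⟨h₀, hh₀⟩ := GaPoints.gaFn_surjective (X := A) (AffineSpace.coord S (ULift.up false))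
  obtain ⟨h₁, hh₁⟩ := GaPoints.gaFn_surjective (X := A) (AffineSpace.coord S (ULift.up true))
  let v : B → Γ((Red.Ga S ⊗ Red.Ga S).left, ⊤) := fun i =>
    Bool.rec (Red.gaFn (fst (Red.Ga S) (Red.Ga S))) (Red.gaFn (snd (Red.Ga S) (Red.Ga S))) i.down
  let g : Red.Ga S ⊗ Red.Ga S ⟶ A := Over.homMk (AffineSpace.homOfVector (Red.Ga S ⊗ Red.Ga S).hom v)
    (AffineSpace.homOfVector_over _ _)
  have hgh : g ≫ lift h₀ h₁ = 𝟙 _ := by
    apply CartesianMonoidalCategory.hom_ext
    · rw [Category.assoc, lift_fst, Category.id_comp]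
      apply GaPoints.gaFn_injective
      rw [GaPoints.gaFn_comp, hh₀]
      exact AffineSpace.homOfVector_appTop_coord _ _ _
    · rw [Category.assoc, lift_snd, Category.id_comp]
      apply GaPoints.gaFn_injective
      rw [GaPoints.gaFn_comp, hh₁]
      exact AffineSpace.homOfVector_appTop_coord _ _ _
  let π : A ⟶ Over.mk (𝟙 S) := Over.homMk (𝔸(B; S) ↘ S) (Category.comp_id _)
  let z : Over.mk (𝟙 S) ⟶ A := Over.homMk (UnitsAffSpace.zeroSec _ S) (UnitsAffSpace.zeroSec_over _ S)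
  have hz : ∀ (i : B) (h : A ⟶ Red.Ga S), Red.gaFn h = AffineSpace.coord S i →
      g ≫ π ≫ z ≫ h = (1 : Red.Ga S ⊗ Red.Ga S ⟶ Red.Ga S) := fun i h hh => by
    apply GaPoints.gaFn_injective
    rw [GaPoints.gaFn_one, GaPoints.gaFn_comp, GaPoints.gaFn_comp, GaPoints.gaFn_comp, hh]
    rw [show z.left.appTop (AffineSpace.coord S i) = 0 from AffineSpace.homOfVector_appTop_coord _ _ _]
    erw [map_zero, map_zero]
  have hp : g ≫ π ≫ z ≫ lift h₀ h₁ = 1 := by
    apply CartesianMonoidalCategory.hom_ext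
    · rw [Category.assoc, Category.assoc, Category.assoc, lift_fst, hz _ _ hh₀, MonObj.one_comp]
    · rw [Category.assoc, Category.assoc, Category.assoc, lift_snd, hz _ _ hh₁, MonObj.one_comp]
  apply GaGmHom.gmFn_injective
  have key : Red.gmFn (lift h₀ h₁ ≫ φ) = π.left.appTop (z.left.appTop (Red.gmFn (lift h₀ h₁ ≫ φ))) :=
    (UnitsAffSpace.eq_pullback_zeroSec _ S _ (GaGmHom.isUnit_gmFn _)).symm
  conv_lhs => rw [← Category.id_comp φ, ← hgh, Category.assoc, GaGmHom.gmFn_comp, key, ← GaGmHom.gmFn_comp,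
    ← GaGmHom.gmFn_comp, ← GaGmHom.gmFn_comp]
  rw [← hp]
  simp only [Category.assoc]

theorem map_square_eq (x : (gmSh S).obj.obj (op (Red.Ga S ⊗ Red.Ga S))) :
    x = (gmSh S).obj.map (1 : Red.Ga S ⊗ Red.Ga S ⟶ Red.Ga S ⊗ Red.Ga S).op x :=
  ULift.ext _ _ (congrArg Additive.ofMul (comp_eq_of_square x.down.toMul))

end Groth.Agent.GaDualLib
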