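import Groth.Agent.GaDualLib.CocTriv
import Groth.Agent.GaDualLib.Points

/-!
# The affine line in characteristic `p` with surjective Frobenius
-/

set_option autoImplicit false
set_option backward.isDefEq.respectTransparency false
set_option backward.isDefEq.respectTransparency.types false
set_option linter.style.haveILetI false

universe u

open CategoryTheory CategoryTheory.Limits AlgebraicGeometry Opposite MonoidalCategory CartesianMonoidalCategory MonObj
open Groth.Agent.GaPoints Groth.Agent.GmTorsor

noncomputable section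

namespace Groth.Agent.GaDualLib

variable (R : Type u) [CommRing R]

/-- The base. -/
abbrev bS : Scheme.{u} := Spec (CommRingCat.of R)

/-- Affine space over the base. -/
def polyObj (σ : Type) : Over (bS R) :=
  Over.mk (Spec.map (CommRingCat.ofHom (MvPolynomial.C : R →+* MvPolynomial σ R)))

/-- The coordinate points. -/
def polyX {σ : Type} (i : σ) : polyObj R σ ⟶ Red.Ga (bS R) :=
  (exists_gaVal (S := bS R) (f := Spec.map (CommRingCat.ofHom (MvPolynomial.C : R →+* MvPolynomial σ R)))
    (MvPolynomial.X i)).choose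

theorem gaVal_polyX {σ : Type} (i : σ) :
    gaVal (f := Spec.map (CommRingCat.ofHom (MvPolynomial.C : R →+* MvPolynomial σ R))) (polyX R i) = MvPolynomial.X i :=
  (exists_gaVal (S := bS R) (f := Spec.map (CommRingCat.ofHom (MvPolynomial.C : R →+* MvPolynomial σ R)))
    (MvPolynomial.X i)).choose_spec

variable {R}

/-- The ring map of a morphism to affine space evaluated at a coordinate. -/
theorem gaFn_comp_polyX {σ : Type} {Y : Over (bS R)} (g : Y ⟶ polyObj R σ) (i : σ) :
    Red.gaFn (g ≫ polyX R i) = ringMap g.left (MvPolynomial.X i) := by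
  rw [GaPoints.gaFn_comp]
  have h := congrArg (Scheme.ΓSpecIso (CommRingCat.of (MvPolynomial σ R))).inv (gaVal_polyX R i)
  rw [gaVal, Iso.hom_inv_id_apply] at h
  show g.left.appTop (Red.gaFn (polyX R i)) = _
  erw [h]
  rfl

theorem ringMap_C {σ : Type} {Y : Over (bS R)} (g : Y ⟶ polyObj R σ) (r : R) :
    ringMap g.left (MvPolynomial.C r) = ringMap Y.hom r := by
  rw [← Over.w g]
  exact (ringMap_comp_SpecMap (CommRingCat.ofHom (MvPolynomial.C : R →+* MvPolynomial σ R)) g.left r).symm

theorem polyObj_hom_ext {σ : Type} {Y : Over (bS R)} {g g' : Y ⟶ polyObj R σ}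
    (h : ∀ i, g ≫ polyX R i = g' ≫ polyX R i) : g = g' := by
  refine Over.OverMorphism.ext (ringMap_injective (MvPolynomial.ringHom_ext (fun r => ?_) fun i => ?_))
  · exact (ringMap_C g r).trans (ringMap_C g' r).symm
  · exact (gaFn_comp_polyX g i).symm.trans ((congrArg Red.gaFn (h i)).trans (gaFn_comp_polyX g' i))

theorem exists_toPoly {σ : Type} {Y : Over (bS R)} (v : σ → (Y ⟶ Red.Ga (bS R))) :
    ∃ g : Y ⟶ polyObj R σ, ∀ i, g ≫ polyX R i = v i := by
  obtain ⟨q, hq⟩ := exists_ringMap (Y := Y.left) (R := CommRingCat.of (MvPolynomial σ R))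
    (MvPolynomial.eval₂Hom (ringMap Y.hom) fun i => Red.gaFn (v i))
  have w : q ≫ (polyObj R σ).hom = Y.hom := by
    refine ringMap_injective (RingHom.ext fun r => ?_)
    refine (ringMap_comp_SpecMap (CommRingCat.ofHom (MvPolynomial.C : R →+* MvPolynomial σ R)) q r).trans ?_
    rw [hq]
    exact MvPolynomial.eval₂Hom_C _ _ r
  refine ⟨Over.homMk q w, fun i => GaPoints.gaFn_injective ?_⟩
  rw [gaFn_comp_polyX]
  show ringMap q _ = _
  rw [hq]
  exact MvPolynomial.eval₂Hom_X' _ _ i

variable (R)

/-- The additive group is the affine line. -/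
theorem exists_gaIso : ∃ e : Red.Ga (bS R) ≅ polyObj R Unit, e.inv = polyX R () := by
  obtain ⟨g, hg⟩ := exists_toPoly (fun _ : Unit => 𝟙 (Red.Ga (bS R)))
  exact ⟨⟨g, polyX R (), hg (), polyObj_hom_ext fun i => by rw [Category.assoc, hg, Category.comp_id, Category.id_comp]⟩,
    rfl⟩

/-- Logarithmic derivatives in characteristic `p` with surjective Frobenius. -/
theorem rootProp_polynomial (p : ℕ) [Fact p.Prime] [CharP R p] (hF : Function.Surjective (frobenius R p)) :
    RootProp p (Polynomial R) (fun x => Polynomial.derivative x) := by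
  intro J a s f hs hd hu
  haveI : ExpChar R p := ExpChar.prime Fact.out
  have hf : IsNilpotent f := by
    rw [Polynomial.isNilpotent_iff]
    intro n
    rw [nilpotent_iff_mem_prime]
    intro P hP
    haveI := hP
    let φ : Polynomial R →+* Polynomial (R ⧸ P) := Polynomial.mapRingHom (Ideal.Quotient.mk P)
    obtain ⟨i, hi⟩ : ∃ i, φ (s i) ≠ 0 := by
      by_contra! h
      have : Ideal.span (Set.range s) ≤ RingHom.ker φ := Ideal.span_le.2 (Set.range_subset_iff.2 h)
      rw [hs] at this
      have h1 : φ 1 = 0 := this (Submodule.mem_top : (1 : Polynomial R) ∈ ⊤)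
      rw [map_one] at h1
      exact one_ne_zero h1
    obtain ⟨m, c, hc⟩ := hu i
    have ha : φ (a i) ≠ 0 := fun h => by
      have := congrArg φ hc
      rw [map_mul, h, zero_mul, map_pow] at this
      exact pow_ne_zero _ hi this.symm
    have he : Polynomial.derivative (φ (a i)) = φ f * φ (a i) := by
      rw [← map_mul, ← hd i]
      exact Polynomial.derivative_map _ _
    have hf0 : φ f = 0 := by
      by_contra h0
      by_cases hd0 : (φ (a i)).natDegree = 0
      · rw [Polynomial.eq_C_of_natDegree_eq_zero hd0, Polynomial.derivative_C] at he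
        exact mul_ne_zero h0 (by rwa [← Polynomial.eq_C_of_natDegree_eq_zero hd0]) he.symm
      · have := Polynomial.natDegree_derivative_lt hd0
        rw [he, Polynomial.natDegree_mul h0 ha] at this
        omega
    have := congrArg (fun g => Polynomial.coeff g n) hf0
    simp only [φ, Polynomial.coe_mapRingHom, Polynomial.coeff_map, Polynomial.coeff_zero] at this
    exact Ideal.Quotient.eq_zero_iff_mem.1 this
  intro i
  obtain ⟨b, hb⟩ := Polynomial.map_surjective (frobenius R p) hF (Polynomial.contract p (a i))
  refine ⟨b, ?_⟩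
  rw [Polynomial.isNilpotent_iff]
  intro n
  have hbp : b ^ p = Polynomial.expand R p (Polynomial.contract p (a i)) := by
    rw [← hb, ← Polynomial.map_expand]
    exact (Polynomial.map_frobenius_expand p b).symm
  rw [hbp, Polynomial.coeff_sub, Polynomial.coeff_expand (Nat.Prime.pos Fact.out)]
  split_ifs with hn
  · rw [Polynomial.coeff_contract (Nat.Prime.ne_zero Fact.out), Nat.div_mul_cancel hn, sub_self]
    exact IsNilpotent.zero
  · rw [sub_zero]
    obtain ⟨n, rfl⟩ : ∃ m, n = m + 1 := ⟨n - 1, (Nat.succ_pred_eq_of_pos (Nat.pos_of_ne_zero fun h => hn (by rw [h]; exact dvd_zero p))).symm⟩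
    have hder : IsNilpotent ((Polynomial.derivative (a i)).coeff n) := by
      refine (Polynomial.isNilpotent_iff.1 ?_) n
      show IsNilpotent (Polynomial.derivative (a i))
      rw [show Polynomial.derivative (a i) = f * a i from hd i]
      exact (Commute.all _ _).isNilpotent_mul_right hf
    rw [Polynomial.coeff_derivative] at hder
    have hu' : IsUnit ((n : R) + 1) := by
      rw [← Nat.cast_add_one]
      exact (CharP.isUnit_natCast_iff (R := R) Fact.out).2 hn
    obtain ⟨v, hv⟩ := isUnit_iff_exists_inv.1 hu'
    have := (Commute.all _ _).isNilpotent_mul_right (y := v) hder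
    rwa [_root_.mul_assoc, hv, _root_.mul_one] at this

theorem rootProp_of_equiv {p : ℕ} {B B' : Type u} [CommRing B] [CommRing B'] (e : B ≃+* B') {d : B' → B'}
    (h : RootProp p B' d) : RootProp p B (fun x => e.symm (d (e x))) := by
  intro J a s f hs hd hu i
  obtain ⟨b, hb⟩ := h J (e ∘ a) (e ∘ s) (e f) (by
      rw [Set.range_comp, ← Ideal.map_span, hs, Ideal.map_top])
    (fun i => by
      have := congrArg e (hd i)
      rwa [e.apply_symm_apply, map_mul] at this)
    (fun i => by
      obtain ⟨n, c, hc⟩ := hu i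
      exact ⟨n, e c, by simp [← map_mul, hc]⟩) i
  refine ⟨e.symm b, ?_⟩
  have := hb.map e.symm
  simpa using this

/-- Cocycles with trivial `p`-th power on the line are trivial. -/
theorem cocTriv_ga (p : ℕ) [Fact p.Prime] [CharP R p] (hF : Function.Surjective (frobenius R p)) :
    IsAffine (Red.Ga (bS R)).left ∧ CocTriv p (Red.Ga (bS R)).left := by
  obtain ⟨e, -⟩ := exists_gaIso R
  haveI : IsAffine (polyObj R Unit).left := by delta polyObj; dsimp; infer_instance
  haveI hA : IsAffine (Red.Ga (bS R)).left := IsAffine.of_isIso e.hom.left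
  refine ⟨hA, ?_⟩
  let E : Γ((Red.Ga (bS R)).left, ⊤) ≃+* Polynomial R :=
    ((Scheme.Γ.mapIso ((Over.forget _).mapIso e).op).commRingCatIsoToRingEquiv.symm.trans
      (Scheme.ΓSpecIso (CommRingCat.of (MvPolynomial Unit R))).commRingCatIsoToRingEquiv).trans
      (MvPolynomial.uniqueAlgEquiv R Unit).toRingEquiv
  have hp0 : (p : Γ((Red.Ga (bS R)).left, ⊤)) = 0 := E.injective (by
    rw [map_natCast, map_zero, ← map_natCast (Polynomial.C : R →+* Polynomial R), CharP.cast_eq_zero, map_zero])
  refine cocTriv_of_rootProp p Fact.out hp0 (fun x => E.symm (Polynomial.derivative (E x))) (fun x y => ?_)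
    (rootProp_of_equiv E (rootProp_polynomial R p hF))
  apply E.injective
  simp only [map_mul, map_add, E.apply_symm_apply, Polynomial.derivative_mul]

end Groth.Agent.GaDualLib
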