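import Groth.Agent.GaDualLib.DualExt
import Groth.Agent.GaDualLib.ExtOne
import Groth.Agent.GaDualLib.Poly
import Groth.Agent.PicProjLib.Affine

/-!
# Dévissage of extensions by the multiplicative group along towers of additive groups
-/

set_option autoImplicit false
set_option backward.isDefEq.respectTransparency false
set_option backward.isDefEq.respectTransparency.types false
set_option linter.style.haveILetI false

universe u

open CategoryTheory CategoryTheory.Limits AlgebraicGeometry Opposite MonObj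
open CategoryTheory.Abelian

noncomputable section

namespace Groth.Agent.GaDualLib

variable {S : Scheme.{u}}

theorem subsingleton_ext_middle {C : Type*} [Category C] [Abelian C] [HasExt.{u + 1} C] {K : ShortComplex C}
    (hK : K.ShortExact) (Y : C) (h₁ : Subsingleton (Ext.{u + 1} K.X₁ Y 1)) (h₃ : Subsingleton (Ext.{u + 1} K.X₃ Y 1)) :
    Subsingleton (Ext.{u + 1} K.X₂ Y 1) := by
  refine subsingleton_of_forall_eq 0 fun x => ?_
  obtain ⟨y, rfl⟩ := Ext.contravariant_sequence_exact₂ hK Y x (Subsingleton.elim _ _)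
  rw [Subsingleton.elim y 0, Ext.comp_zero]

theorem subsingleton_H_one_tower (n : ℕ) (U : Fin (n + 1) → Over S) [∀ j, GrpObj (U j)] [∀ j, IsCommMonObj (U j)]
    (incl : ∀ j : Fin n, U j.castSucc ⟶ U j.succ) (proj : ∀ j : Fin n, U j.succ ⟶ Red.Ga S)
    [∀ j, IsMonHom (incl j)] [∀ j, IsMonHom (proj j)] (w : ∀ j, incl j ≫ proj j = 1)
    (hex : ∀ j, (CGrpSh.seq Scheme.fppfPrecoverage (incl j) (proj j) (w j)).ShortExact)
    (h0 : IsZero (CGrpSh.pts Scheme.fppfPrecoverage (U 0)))
    (hGa : Subsingleton (Ext.{u + 1} (gaSh S) (gmSh S) 1)) :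
    Subsingleton (BigSite.H Scheme.fppfPrecoverage S
      (CGrpSh2.dualSh Scheme.fppfPrecoverage (CGrpSh.pts Scheme.fppfPrecoverage (U (Fin.last n)))) 1) := by
  have h : ∀ j : Fin (n + 1), Subsingleton (Ext.{u + 1} (CGrpSh.pts Scheme.fppfPrecoverage (U j)) (gmSh S) 1) := by
    intro j
    induction j using Fin.induction with
    | zero =>
      refine subsingleton_of_forall_eq 0 fun x => ?_
      rw [← Ext.mk₀_id_comp x, h0.eq_of_src (𝟙 _) 0, Ext.mk₀_zero, Ext.zero_comp]
    | succ j ih => exact subsingleton_ext_middle (hex j) _ ih hGa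
  haveI := h (Fin.last n)
  exact DualExt.subsingleton_H_one _ _

theorem pic_ga_field (k : Type u) [Field k] (L : (Red.Ga (Spec (CommRingCat.of k))).left.Modules)
    (hL : PicF.IsInvertible L) :
    Nonempty (L ≅ Coh.structureModule (Red.Ga (Spec (CommRingCat.of k))).left) := by
  obtain ⟨e, -⟩ := exists_gaIso k
  haveI : IsAffine (polyObj k Unit).left := by delta polyObj; dsimp; infer_instance
  haveI : IsAffine (Red.Ga (Spec (CommRingCat.of k))).left := IsAffine.of_isIso e.hom.left
  let E : Γ((Red.Ga (Spec (CommRingCat.of k))).left, ⊤) ≃+* MvPolynomial Unit k :=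
    (Scheme.Γ.mapIso ((Over.forget _).mapIso e).op).commRingCatIsoToRingEquiv.symm.trans
      (Scheme.ΓSpecIso (CommRingCat.of (MvPolynomial Unit k))).commRingCatIsoToRingEquiv
  haveI : IsDomain Γ((Red.Ga (Spec (CommRingCat.of k))).left, ⊤) := E.toMulEquiv.isDomain (MvPolynomial Unit k)
  haveI : UniqueFactorizationMonoid Γ((Red.Ga (Spec (CommRingCat.of k))).left, ⊤) :=
    E.symm.toMulEquiv.uniqueFactorizationMonoid inferInstance
  exact (PicLib.cls_eq_one hL).1 (PicProjLib.pic_affine_ufd (PicLib.cls hL))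

end Groth.Agent.GaDualLib
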