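import Groth.Agent.GaDualLib.AlphaCoc
import Groth.Agent.GaDualLib.ExtFrob
import Groth.Agent.GaDualLib.DualExt
import Groth.Agent.GaDualLib.Tower
import Mathlib.AlgebraicGeometry.Group.Affine

/-!
# Extensions of `α_{p^n}` by the multiplicative group split when Frobenius is surjective
-/

set_option autoImplicit false
set_option backward.isDefEq.respectTransparency false
set_option backward.isDefEq.respectTransparency.types false
set_option linter.style.haveILetI false
set_option maxHeartbeats 1000000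

universe u

open CategoryTheory CategoryTheory.Limits AlgebraicGeometry Opposite MonoidalCategory CartesianMonoidalCategory MonObj
open CategoryTheory.Abelian Groth.Agent.GmTorsor Groth.Agent.GaPoints
open scoped TensorProduct

noncomputable section

namespace Groth.Agent.GaDualLib.AlphaExt

theorem one_comp_of_mul {S : Scheme.{u}} {G H : Over S} [GrpObj G] [GrpObj H] (f : G ⟶ H)
    (h : ∀ {T : Over S} (a b : T ⟶ G), (a * b) ≫ f = (a ≫ f) * (b ≫ f)) {T : Over S} : (1 : T ⟶ G) ≫ f = 1 := by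
  have e := h (1 : T ⟶ G) 1
  rw [_root_.one_mul] at e
  exact (left_eq_mul.1 e)

theorem isMonHom_of_mul {S : Scheme.{u}} {G H : Over S} [GrpObj G] [GrpObj H] (f : G ⟶ H)
    (h : ∀ {T : Over S} (a b : T ⟶ G), (a * b) ≫ f = (a ≫ f) * (b ≫ f)) : IsMonHom f where
  one_hom := by
    have e := one_comp_of_mul f h (T := 𝟙_ (Over S))
    rwa [Hom.one_def, Hom.one_def, toUnit_unique (toUnit (𝟙_ (Over S))) (𝟙 _), Category.id_comp, Category.id_comp] at e
  mul_hom := by
    have e := h (fst G G) (snd G G)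
    rw [Hom.mul_def, Hom.mul_def, lift_fst_snd, Category.id_comp] at e
    rw [e]
    congr 1

variable (p : ℕ) [hp : Fact p.Prime] (n : ℕ) (R : Type u) [CommRing R] [CharP R p]

/-- The scheme of `α_{p^n}`. -/
abbrev aObj : Over (bS R) := (Spec (CommRingCat.of (AlphaPn.A p n R))).asOver (Spec (CommRingCat.of R))

/-- The base morphism. -/
abbrev aBase : Spec (CommRingCat.of (AlphaPn.A p n R)) ⟶ bS R :=
  Spec.map (CommRingCat.ofHom (algebraMap R (AlphaPn.A p n R)))

/-- The coordinate. -/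
def aX : aObj p n R ⟶ Red.Ga (bS R) :=
  (exists_gaVal (S := bS R) (f := aBase p n R) (AlphaPn.x p n R)).choose

omit hp [CharP R p] in
theorem gaVal_aX : gaVal (f := aBase p n R) (aX p n R) = AlphaPn.x p n R :=
  (exists_gaVal (S := bS R) (f := aBase p n R) (AlphaPn.x p n R)).choose_spec

variable {p n R}

omit hp [CharP R p] in
theorem gaFn_comp_aX {Y : Over (bS R)} (g : Y ⟶ aObj p n R) :
    Red.gaFn (g ≫ aX p n R) = ringMap g.left (AlphaPn.x p n R) := by
  rw [GaPoints.gaFn_comp]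
  have h := congrArg (Scheme.ΓSpecIso (CommRingCat.of (AlphaPn.A p n R))).inv (gaVal_aX p n R)
  rw [gaVal, Iso.hom_inv_id_apply] at h
  show g.left.appTop (Red.gaFn (aX p n R)) = _
  erw [h]
  rfl

omit hp [CharP R p] in
theorem ringMap_algebraMap {Y : Over (bS R)} (g : Y ⟶ aObj p n R) (r : R) :
    ringMap g.left (algebraMap R (AlphaPn.A p n R) r) = ringMap Y.hom r := by
  rw [← Over.w g]
  exact (ringMap_comp_SpecMap (CommRingCat.ofHom (algebraMap R (AlphaPn.A p n R))) g.left r).symm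

omit hp [CharP R p] in
theorem pow_eq_zero_aX {Y : Over (bS R)} (g : Y ⟶ aObj p n R) : Red.gaFn (g ≫ aX p n R) ^ (p ^ n) = 0 := by
  rw [gaFn_comp_aX, ← map_pow, AlphaPn.x_pow, map_zero]

omit hp [CharP R p] in
theorem aObj_hom_ext {Y : Over (bS R)} {g g' : Y ⟶ aObj p n R} (h : g ≫ aX p n R = g' ≫ aX p n R) : g = g' := by
  refine Over.OverMorphism.ext (ringMap_injective ?_)
  refine RingHom.ext fun u => ?_
  obtain ⟨f, rfl⟩ := AlphaPn.mk_surjective p n R u
  induction f using Polynomial.induction_on' with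
  | add a b ha hb =>
    rw [map_add]
    exact (map_add (ringMap g.left) _ _).trans ((congrArg₂ (· + ·) ha hb).trans (map_add (ringMap g'.left) _ _).symm)
  | monomial m a =>
    rw [← Polynomial.C_mul_X_pow_eq_monomial, map_mul, map_pow, AlphaPn.mk_X,
      show AlphaPn.mk p n R (Polynomial.C a) = algebraMap R _ a from (AlphaPn.mk p n R).commutes a]
    refine (map_mul (ringMap g.left) _ _).trans (Eq.trans ?_ (map_mul (ringMap g'.left) _ _).symm)
    refine congrArg₂ (· * ·) ((ringMap_algebraMap g a).trans (ringMap_algebraMap g' a).symm) ?_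
    refine (map_pow (ringMap g.left) _ _).trans (Eq.trans ?_ (map_pow (ringMap g'.left) _ _).symm)
    exact congrArg (· ^ m) ((gaFn_comp_aX g).symm.trans ((congrArg Red.gaFn h).trans (gaFn_comp_aX g')))

omit hp [CharP R p] in
theorem exists_toA {Y : Over (bS R)} (v : Y ⟶ Red.Ga (bS R)) (hv : Red.gaFn v ^ (p ^ n) = 0) :
    ∃ g : Y ⟶ aObj p n R, g ≫ aX p n R = v := by
  let ψ : AlphaPn.A p n R →+* Γ(Y.left, ⊤) :=
    AdjoinRoot.lift (ringMap Y.hom) (Red.gaFn v) (by rw [Polynomial.eval₂_X_pow, hv])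
  obtain ⟨q, hq⟩ := exists_ringMap (Y := Y.left) (R := CommRingCat.of (AlphaPn.A p n R)) ψ
  have w : q ≫ (aObj p n R).hom = Y.hom := by
    refine ringMap_injective (RingHom.ext fun r => ?_)
    refine (ringMap_comp_SpecMap (CommRingCat.ofHom (algebraMap R (AlphaPn.A p n R))) q r).trans ?_
    rw [hq]
    exact AdjoinRoot.lift_of _
  refine ⟨Over.homMk q w, GaPoints.gaFn_injective ?_⟩
  rw [gaFn_comp_aX]
  show ringMap q _ = _
  rw [hq]
  exact AdjoinRoot.lift_root _

/-- The tensor square as a product. -/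
theorem gaFn_mul_aX :
    Red.gaFn (μ[aObj p n R] ≫ aX p n R) =
      Red.gaFn (fst (aObj p n R) (aObj p n R) ≫ aX p n R) + Red.gaFn (snd (aObj p n R) (aObj p n R) ≫ aX p n R) := by
  rw [gaFn_comp_aX, gaFn_comp_aX, gaFn_comp_aX]
  let A := AlphaPn.A p n R
  have e1 : (fst (aObj p n R) (aObj p n R)).left = (pullbackSpecIso R A A).hom ≫
      Spec.map (CommRingCat.ofHom Algebra.TensorProduct.includeLeftRingHom) :=
    (pullbackSpecIso_hom_fst R A A).symm
  have e2 : (snd (aObj p n R) (aObj p n R)).left = (pullbackSpecIso R A A).hom ≫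
      Spec.map (CommRingCat.ofHom (Algebra.TensorProduct.includeRight : A →ₐ[R] A ⊗[R] A).toRingHom) :=
    (pullbackSpecIso_hom_snd R A A).symm
  rw [e1, e2, mul_spec_asOver_spec_left, ringMap_comp_SpecMap, ringMap_comp_SpecMap, ringMap_comp_SpecMap, ← map_add]
  exact congrArg _ (AlphaPn.comul_x p n R)

instance isMonHom_aX : IsMonHom (aX p n R) := by
  refine isMonHom_of_mul _ fun {T} a b => GaPoints.gaFn_injective ?_
  rw [GaPoints.gaFn_mul, Hom.mul_def, Category.assoc, GaPoints.gaFn_comp, gaFn_mul_aX, map_add,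
    ← GaPoints.gaFn_comp, ← GaPoints.gaFn_comp, lift_fst_assoc, lift_snd_assoc]

theorem gaFn_mul_comp {T : Over (bS R)} (a b : T ⟶ aObj p n R) :
    Red.gaFn ((a * b) ≫ aX p n R) = Red.gaFn (a ≫ aX p n R) + Red.gaFn (b ≫ aX p n R) := by
  rw [MonObj.mul_comp, GaPoints.gaFn_mul]

omit hp in
theorem cast_gamma (T : Over (bS R)) : (p : Γ(T.left, ⊤)) = 0 := by
  rw [← map_natCast (GaPoints.ringMap (R := CommRingCat.of R) T.hom), CharP.cast_eq_zero, map_zero]

/-- Powers in `p`-torsion rings are additive. -/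
theorem add_pow_p {B : Type u} [CommRing B] (hB : (p : B) = 0) (a b : B) : (a + b) ^ p = a ^ p + b ^ p := by
  obtain ⟨r, hr⟩ := exists_add_pow_prime_eq (Fact.out : p.Prime) a b
  rw [hr, hB, zero_mul, zero_mul, zero_mul, add_zero]

/-- The sheaf of points of `α_{p^n}`. -/
abbrev aSh (p : ℕ) [Fact p.Prime] (n : ℕ) (R : Type u) [CommRing R] [CharP R p] :
    BigSite.Ab Scheme.fppfPrecoverage (bS R) := CGrpSh.pts Scheme.fppfPrecoverage (aObj p n R)

/-- A point as a section. -/
def aPt {T : Over (bS R)} (x : T ⟶ aObj p n R) : (aSh p n R).obj.obj (op T) := ULift.up (Additive.ofMul x)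

theorem aPt_map {T T' : Over (bS R)} (a : T' ⟶ T) (x : T ⟶ aObj p n R) :
    (aSh p n R).obj.map a.op (aPt x) = aPt (a ≫ x) := rfl

theorem aPt_mul {T : Over (bS R)} (x y : T ⟶ aObj p n R) : aPt (x * y) = aPt x + aPt y := rfl

theorem aPt_one {T : Over (bS R)} : aPt (1 : T ⟶ aObj p n R) = 0 := rfl

section One

variable (p R)

/-- The one variable ring. -/
abbrev B₁ : Type u := AlphaCoc.P p R

/-- The two variable ring. -/
abbrev B₂ : Type u := AlphaCoc.P p (B₁ p R)

/-- The three variable ring. -/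
abbrev B₃ : Type u := AlphaCoc.P p (B₂ p R)

/-- Structure maps. -/
abbrev γ₂ : R →+* B₂ p R := (AlphaCoc.cst p (B₁ p R)).comp (AlphaCoc.cst p R)

/-- Structure maps. -/
abbrev γ₃ : R →+* B₃ p R := (AlphaCoc.cst p (B₂ p R)).comp (γ₂ p R)

/-- An affine scheme over the base. -/
abbrev sObj {B : Type u} [CommRing B] (gam : R →+* B) : Over (bS R) := Over.mk (Spec.map (CommRingCat.ofHom gam))

variable {p R}

/-- The value of a section of the multiplicative group on an affine scheme. -/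
def svB {B : Type u} [CommRing B] {gam : R →+* B} (x : (gmSh (bS R)).obj.obj (op (sObj R gam))) : B :=
  gmVal (f := Spec.map (CommRingCat.ofHom gam)) x.down.toMul

omit hp [CharP R p] in
theorem svB_add {B : Type u} [CommRing B] {gam : R →+* B} (x y : (gmSh (bS R)).obj.obj (op (sObj R gam))) :
    svB (x + y) = svB x * svB y :=
  gmVal_mul (f := Spec.map (CommRingCat.ofHom gam)) x.down.toMul y.down.toMul

omit hp [CharP R p] in
theorem svB_injective {B : Type u} [CommRing B] {gam : R →+* B} : Function.Injective (svB (R := R) (gam := gam)) :=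
  fun x y h => ULift.ext _ _ (Additive.toMul.injective (gmVal_injective (f := Spec.map (CommRingCat.ofHom gam)) h))

omit hp [CharP R p] in
theorem svB_zero {B : Type u} [CommRing B] {gam : R →+* B} : svB (0 : (gmSh (bS R)).obj.obj (op (sObj R gam))) = 1 := by
  have h := svB_add (gam := gam) (0 : (gmSh (bS R)).obj.obj (op (sObj R gam))) 0
  rw [add_zero] at h
  exact (isUnit_gmVal (f := Spec.map (CommRingCat.ofHom gam)) _).mul_left_cancel (h.symm.trans (_root_.mul_one _).symm)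

omit hp [CharP R p] in
theorem specMap_comp {B B' : Type u} [CommRing B] [CommRing B'] {gam : R →+* B} {gam' : R →+* B'} (ψ : B →+* B')
    (h : ψ.comp gam = gam') : Spec.map (CommRingCat.ofHom ψ) ≫ Spec.map (CommRingCat.ofHom gam) = Spec.map (CommRingCat.ofHom gam') := by
  rw [← Spec.map_comp, ← CommRingCat.ofHom_comp, h]

/-- A morphism of affine schemes over the base. -/
def morB {B B' : Type u} [CommRing B] [CommRing B'] {gam : R →+* B} {gam' : R →+* B'} (ψ : B →+* B')
    (h : ψ.comp gam = gam') : sObj R gam' ⟶ sObj R gam := mor ψ (specMap_comp ψ h)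

omit hp [CharP R p] in
theorem svB_morB {B B' : Type u} [CommRing B] [CommRing B'] {gam : R →+* B} {gam' : R →+* B'} (ψ : B →+* B')
    (h : ψ.comp gam = gam') (x : (gmSh (bS R)).obj.obj (op (sObj R gam))) :
    svB ((gmSh (bS R)).obj.map (morB ψ h).op x) = ψ (svB x) :=
  gmVal_mor ψ (specMap_comp ψ h) x.down.toMul

/-- The value of a point of `α_p` on an affine scheme. -/
def vB {B : Type u} [CommRing B] {gam : R →+* B} (x : sObj R gam ⟶ aObj p n R) : B :=
  gaVal (f := Spec.map (CommRingCat.ofHom gam)) (x ≫ aX p n R)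

omit hp [CharP R p] in
theorem vB_injective {B : Type u} [CommRing B] {gam : R →+* B} : Function.Injective (vB (p := p) (n := n) (gam := gam)) :=
  fun _ _ h => aObj_hom_ext (gaVal_injective (f := Spec.map (CommRingCat.ofHom gam)) h)

omit hp [CharP R p] in
theorem exists_vB {B : Type u} [CommRing B] (gam : R →+* B) (b : B) (hb : b ^ (p ^ n) = 0) :
    ∃ x : sObj R gam ⟶ aObj p n R, vB x = b := by
  obtain ⟨v, hv⟩ := exists_gaVal (S := bS R) (f := Spec.map (CommRingCat.ofHom gam)) b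
  obtain ⟨g, hg⟩ := exists_toA v (p := p) (n := n) (by
    have h : (Scheme.ΓSpecIso (CommRingCat.of B)).hom (Red.gaFn v ^ (p ^ n)) = 0 := by
      rw [map_pow]
      show gaVal (f := Spec.map (CommRingCat.ofHom gam)) v ^ (p ^ n) = 0
      rw [hv, hb]
    exact (Scheme.ΓSpecIso (CommRingCat.of B)).commRingCatIsoToRingEquiv.injective (h.trans (map_zero _).symm))
  exact ⟨g, by rw [vB, hg, hv]⟩

theorem vB_mul {B : Type u} [CommRing B] {gam : R →+* B} (x y : sObj R gam ⟶ aObj p n R) :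
    vB (x * y) = vB x + vB y := by
  rw [vB, MonObj.mul_comp, gaVal_mul]
  rfl

theorem vB_one {B : Type u} [CommRing B] {gam : R →+* B} : vB (1 : sObj R gam ⟶ aObj p n R) = 0 := by
  have h := vB_mul (gam := gam) (1 : sObj R gam ⟶ aObj p n R) 1
  rw [_root_.one_mul] at h
  exact add_eq_left.1 h.symm

omit hp [CharP R p] in
theorem vB_morB {B B' : Type u} [CommRing B] [CommRing B'] {gam : R →+* B} {gam' : R →+* B'} (ψ : B →+* B')
    (h : ψ.comp gam = gam') (x : sObj R gam ⟶ aObj p n R) : vB (morB ψ h ≫ x) = ψ (vB x) := by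
  rw [vB, Category.assoc]
  exact gaVal_mor ψ (specMap_comp ψ h) _

theorem cocTriv_alpha (hF : Function.Surjective (frobenius R p)) : CocTriv p (aObj p 1 R).left := by
  haveI : IsAffine (aObj p 1 R).left := inferInstanceAs (IsAffine (Spec (CommRingCat.of (AlphaPn.A p 1 R))))
  let E : Γ((aObj p 1 R).left, ⊤) ≃+* AlphaPn.A p 1 R :=
    (Scheme.ΓSpecIso (CommRingCat.of (AlphaPn.A p 1 R))).commRingCatIsoToRingEquiv
  have hp0 : (p : Γ((aObj p 1 R).left, ⊤)) = 0 := E.injective (by rw [map_natCast, map_zero, CharP.cast_eq_zero])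
  have hr : RootProp p (AlphaPn.A p 1 R) (fun _ => 0) := fun J a s f _ _ _ i => by
    obtain ⟨b, hb⟩ := hF (AlphaCoc.ev0 p R (a i))
    rw [frobenius_def] at hb
    refine ⟨AlphaCoc.cst p R b, p, ?_⟩
    have h : (frobenius (AlphaPn.A p 1 R) p) =
        (AlphaCoc.cst p R).comp ((frobenius R p).comp (AlphaCoc.ev0 p R)) :=
      AlphaCoc.ext_P p (fun r => by simp [frobenius_def]) (by
        simp [frobenius_def, AlphaCoc.xv_pow p R, zero_pow hp.out.ne_zero])
    have hi := RingHom.congr_fun h (a i)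
    simp only [frobenius_def, RingHom.comp_apply] at hi
    rw [← map_pow, hb, sub_pow_char, hi]
    simp only [map_pow, sub_self]
  refine cocTriv_of_rootProp p Fact.out hp0 (fun x => E.symm ((fun _ => 0) (E x))) (fun x y => ?_)
    (rootProp_of_equiv E hr)
  simp

theorem splits_alpha (hF : Function.Surjective (frobenius R p))
    {M : BigSite.Ab Scheme.fppfPrecoverage (bS R)} {f : gmSh (bS R) ⟶ M} {g : M ⟶ aSh p 1 R} {w : f ≫ g = 0}
    (hS : (ShortComplex.mk f g w).ShortExact) : ∃ σ : aSh p 1 R ⟶ M, σ ≫ g = 𝟙 _ := by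
  haveI : Epi g := hS.epi_g
  haveI : Mono f := hS.mono_f
  let A := aObj p 1 R
  obtain ⟨A', c, hc, t, ht⟩ := exists_lift g (aPt (𝟙 A))
  have hpre : ∀ (T : Over (bS R)) (x : M.obj.obj (op T)), g.hom.app (op T) x = 0 → ∃ y, f.hom.app (op T) y = x :=
    fun T x hx => (ShortComplex.ab_exact_iff _).1 (hS.exact.map_of_mono_of_preservesKernel
      (sheafToPresheaf _ _ ⋙ (evaluation _ AddCommGrpCat.{u + 1}).obj (op T)) inferInstance inferInstance) x hx
  have hd₀ : ∀ {Z : Over (bS R)} (a b : Z ⟶ A'), a ≫ c = b ≫ c →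
      ∃ x, f.hom.app (op Z) x = M.obj.map b.op t - M.obj.map a.op t := fun {Z} a b e => by
    refine hpre Z _ ?_
    rw [map_sub, app_map, app_map, ht, map_map, map_map, e, sub_self]
  choose d hd using @hd₀
  have hp' : ∀ {T : Over (bS R)} (x : T ⟶ A), p • aPt x = 0 := fun {T} x => by
    have h : ∀ m : ℕ, Red.gaFn (((m • aPt x).down.toMul : T ⟶ A) ≫ aX p 1 R) =
        (m : Γ(T.left, ⊤)) * Red.gaFn (x ≫ aX p 1 R) := fun m => by
      induction m with
      | zero =>
        rw [zero_smul, Nat.cast_zero, zero_mul]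
        exact (congrArg Red.gaFn (MonObj.one_comp (aX p 1 R))).trans GaPoints.gaFn_one
      | succ m ih =>
        rw [succ_nsmul, Nat.cast_succ, add_mul, _root_.one_mul, ← ih]
        exact gaFn_mul_comp _ _
    refine ULift.ext _ _ (Additive.toMul.injective (aObj_hom_ext (GaPoints.gaFn_injective ?_)))
    rw [h p, cast_gamma T, zero_mul]
    exact ((congrArg Red.gaFn (MonObj.one_comp (aX p 1 R))).trans GaPoints.gaFn_one).symm
  obtain ⟨K, hK⟩ := hpre A' (p • t) (by rw [map_nsmul, ht, aPt_map, hp'])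
  obtain ⟨k, hk⟩ := exists_gm_coboundary_of_pow (p := p) hc (cocTriv_alpha hF) (fun a b e => d a b e)
    (fun {Z Z'} m a b e e' => injective_app f Z' (by
      rw [app_map, hd, hd, map_sub, map_map, map_map]))
    (fun {Z} a b c' e₁ e₂ => injective_app f Z (by rw [map_add, hd, hd, hd]; abel)) K
    (fun {Z} a b e => injective_app f Z (by
      rw [map_add, map_nsmul, hd, app_map, app_map, hK, map_nsmul, map_nsmul, smul_sub]
      abel))
  obtain ⟨s, hs, -⟩ := existsUnique_descent M hc (t - f.hom.app (op A') k) fun {Z} a b e => by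
    have h := congrArg (f.hom.app (op Z)) (hk a b e)
    rw [map_add, hd, app_map, app_map] at h
    simp only [map_sub]
    rw [← h]
    abel
  have hgs : g.hom.app (op A) s = aPt (𝟙 A) := eq_of_map_eq (aSh p 1 R) hc (by
    rw [← app_map, hs, map_sub, ht]
    have : g.hom.app (op A') (f.hom.app (op A') k) = 0 := congr(($w).hom.app (op A') k)
    rw [this, sub_zero])
  let s₀ := s - M.obj.map (1 : A ⟶ A).op s
  have hgs₀ : g.hom.app (op A) s₀ = aPt (𝟙 A) := by
    simp only [s₀, map_sub, app_map, hgs]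
    rw [aPt_map, Category.comp_id, aPt_one, sub_zero]
  have ho : M.obj.map (1 : A ⟶ A).op s₀ = 0 := by
    simp only [s₀, map_sub, map_map, MonObj.comp_one, sub_self]
  clear_value s₀
  let F₀ : ∀ {T : Over (bS R)} (x y : T ⟶ A), ∃ h, f.hom.app (op T) h =
      M.obj.map (x * y).op s₀ - M.obj.map x.op s₀ - M.obj.map y.op s₀ := fun {T} x y => by
    refine hpre T _ ?_
    rw [map_sub, map_sub, app_map, app_map, app_map, hgs₀, aPt_map, aPt_map, aPt_map, Category.comp_id,
      Category.comp_id, Category.comp_id]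
    erw [aPt_mul x y]
    abel
  choose F hF' using @F₀
  have hFnat : ∀ {T T' : Over (bS R)} (j : T' ⟶ T) (x y : T ⟶ A),
      (gmSh (bS R)).obj.map j.op (F x y) = F (j ≫ x) (j ≫ y) := fun {T T'} j x y => injective_app f T' (by
    rw [app_map, hF', hF', map_sub, map_sub, map_map, map_map, map_map, MonObj.comp_mul])
  have hFcoc : ∀ {T : Over (bS R)} (x y z : T ⟶ A), F y z + F x (y * z) = F (x * y) z + F x y :=
    fun {T} x y z => injective_app f T (by rw [map_add, map_add, hF', hF', hF', hF', _root_.mul_assoc]; abel)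
  have hFone : ∀ {T : Over (bS R)} (x : T ⟶ A), F x 1 = 0 := fun {T} x => injective_app f T (by
    rw [hF', map_zero, _root_.mul_one, sub_self, zero_sub, neg_eq_zero,
      show (1 : T ⟶ A) = x ≫ (1 : A ⟶ A) from (MonObj.comp_one x).symm, ← map_map, ho, map_zero])
  -- the universal points
  have hx1 : (AlphaCoc.xv p R : B₁ p R) ^ (p ^ 1) = 0 := AlphaPn.x_pow p 1 R
  have hxa : (AlphaCoc.cst p (B₁ p R) (AlphaCoc.xv p R) : B₂ p R) ^ (p ^ 1) = 0 := by rw [← map_pow, hx1, map_zero]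
  have hxb : (AlphaCoc.xv p (B₁ p R) : B₂ p R) ^ (p ^ 1) = 0 := AlphaPn.x_pow p 1 (B₁ p R)
  obtain ⟨U₁, hU₁⟩ := exists_vB (n := 1) (AlphaCoc.cst p R) (AlphaCoc.xv p R) hx1
  obtain ⟨X₀, hX₀⟩ := exists_vB (n := 1) (γ₂ p R) _ hxa
  obtain ⟨X₁, hX₁⟩ := exists_vB (n := 1) (γ₂ p R) _ hxb
  let h : B₂ p R := svB (F X₀ X₁)
  have heval : ∀ {B : Type u} [CommRing B] {gam : R →+* B} (ψ : B₂ p R →+* B) (hψ : ψ.comp (γ₂ p R) = gam)
      (x y : sObj R gam ⟶ A), vB x = ψ (vB X₀) → vB y = ψ (vB X₁) → svB (F x y) = ψ h := fun {B} _ {gam} ψ hψ x y ex ey => by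
    rw [show x = morB ψ hψ ≫ X₀ from vB_injective (by rw [vB_morB, ex]),
      show y = morB ψ hψ ≫ X₁ from vB_injective (by rw [vB_morB, ey]), ← hFnat, svB_morB]
  have hnorm : AlphaCoc.ev0 p (B₁ p R) h = 1 := by
    rw [← heval (gam := AlphaCoc.cst p R) (AlphaCoc.ev0 p (B₁ p R))
      (RingHom.ext fun r => AlphaCoc.ev0_cst p _ _) U₁ 1 (by rw [hU₁, hX₀, AlphaCoc.ev0_cst])
      (by rw [vB_one, hX₁, AlphaCoc.ev0_x]), hFone, svB_zero]
  have hcomp : ∀ (φ : B₁ p R →+* B₂ p R) (hφ : φ.comp (AlphaCoc.cst p R) = γ₂ p R) (c : B₂ p R) (hc' : c ^ p = 0),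
      (AlphaCoc.shift p φ c hc').comp (γ₂ p R) = γ₃ p R := fun φ hφ c hc' => RingHom.ext fun r => by
    show AlphaCoc.shift p φ c hc' (AlphaCoc.cst p (B₁ p R) (AlphaCoc.cst p R r)) = _
    rw [AlphaCoc.shift_cst]
    exact congrArg (AlphaCoc.cst p (B₂ p R)) (RingHom.congr_fun hφ r)
  have hiy : (AlphaCoc.iy p R).comp (AlphaCoc.cst p R) = γ₂ p R := RingHom.ext fun r => by
    simp only [RingHom.comp_apply, AlphaCoc.shift_cst]
  have his : (AlphaCoc.is p R).comp (AlphaCoc.cst p R) = γ₂ p R := RingHom.ext fun r => by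
    simp only [RingHom.comp_apply, AlphaCoc.shift_cst]
  obtain ⟨Y₀, hY₀⟩ := exists_vB (n := 1) (γ₃ p R) (AlphaCoc.cst p (B₂ p R) (vB X₀))
    (by rw [← map_pow, hX₀, hxa, map_zero])
  obtain ⟨Y₁, hY₁⟩ := exists_vB (n := 1) (γ₃ p R) (AlphaCoc.cst p (B₂ p R) (vB X₁))
    (by rw [← map_pow, hX₁, hxb, map_zero])
  obtain ⟨Y₂, hY₂⟩ := exists_vB (n := 1) (γ₃ p R) (AlphaCoc.xv p (B₂ p R)) (AlphaPn.x_pow p 1 (B₂ p R))
  have hcoc : AlphaCoc.shift p (AlphaCoc.iy p R) 0 (AlphaCoc.zero_pow_p p) h *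
        AlphaCoc.shift p (AlphaCoc.cst p (B₁ p R)) (AlphaCoc.xv p (B₁ p R)) (AlphaCoc.xv_pow p (B₁ p R)) h =
      AlphaCoc.shift p (AlphaCoc.is p R) 0 (AlphaCoc.zero_pow_p p) h * AlphaCoc.cst p (B₂ p R) h := by
    have e := congrArg svB (hFcoc Y₀ Y₁ Y₂)
    rw [svB_add, svB_add] at e
    rw [hX₀] at hY₀
    rw [hX₁] at hY₁
    rw [heval _ (hcomp _ hiy _ (AlphaCoc.zero_pow_p p)) Y₁ Y₂
        (by rw [hY₁, hX₀, AlphaCoc.shift_cst, AlphaCoc.shift_x, map_zero, zero_add])
        (by rw [hY₂, hX₁, AlphaCoc.shift_x, map_zero, zero_add]),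
      heval _ (hcomp _ rfl _ (AlphaCoc.xv_pow p (B₁ p R))) Y₀ (Y₁ * Y₂)
        (by rw [hY₀, hX₀, AlphaCoc.shift_cst])
        (by rw [vB_mul, hY₁, hY₂, hX₁, AlphaCoc.shift_x]),
      heval _ (hcomp _ his _ (AlphaCoc.zero_pow_p p)) (Y₀ * Y₁) Y₂
        (by rw [vB_mul, hY₀, hY₁, hX₀, AlphaCoc.shift_cst, AlphaCoc.shift_x, map_add])
        (by rw [hY₂, hX₁, AlphaCoc.shift_x, map_zero, zero_add]),
      heval (AlphaCoc.cst p (B₂ p R)) rfl Y₀ Y₁ (by rw [hY₀, hX₀]) (by rw [hY₁, hX₁])] at e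
    exact e
  obtain ⟨q, hq, hqe⟩ := AlphaCoc.exists_split p R hF h hnorm hcoc
  obtain ⟨φ, hφ⟩ : ∃ x : (gmSh (bS R)).obj.obj (op (sObj R (AlphaCoc.cst p R))), svB x = q := by
    obtain ⟨x, hx⟩ := exists_gmVal (S := bS R) (f := Spec.map (CommRingCat.ofHom (AlphaCoc.cst p R))) q hq
    exact ⟨ULift.up (Additive.ofMul x), hx⟩
  let φA : (gmSh (bS R)).obj.obj (op A) := φ
  have h2 : U₁ = 𝟙 A := vB_injective (gam := AlphaCoc.cst p R)
    (hU₁.trans (gaVal_aX p 1 R).symm |>.trans (congrArg (gaVal (f := aBase p 1 R)) (Category.id_comp _).symm))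
  have hφA : (gmSh (bS R)).obj.map U₁.op φA = φ := by
    rw [h2]
    exact ConcreteCategory.congr_hom ((gmSh (bS R)).obj.map_id _) φ
  clear_value φA
  have huniv : (gmSh (bS R)).obj.map (X₀ * X₁).op φA =
      (gmSh (bS R)).obj.map X₀.op φA + (gmSh (bS R)).obj.map X₁.op φA + F X₀ X₁ := svB_injective (by
    have key : ∀ (ψ : B₁ p R →+* B₂ p R) (hψ : ψ.comp (AlphaCoc.cst p R) = γ₂ p R) (z : sObj R (γ₂ p R) ⟶ A),
        vB z = ψ (vB U₁) → svB ((gmSh (bS R)).obj.map z.op φA) = ψ q := fun ψ hψ z hz => by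
      rw [show z = morB ψ hψ ≫ U₁ from vB_injective (by rw [vB_morB, hz]), ← map_map, hφA, svB_morB, hφ]
    rw [svB_add, svB_add, key _ his (X₀ * X₁) (by rw [vB_mul, hX₀, hX₁, hU₁, AlphaCoc.shift_x]),
      key (AlphaCoc.cst p (B₁ p R)) rfl X₀ (by rw [hX₀, hU₁]),
      key _ hiy X₁ (by rw [hX₁, hU₁, AlphaCoc.shift_x, map_zero, zero_add])]
    exact hqe)
  have hadd : ∀ {T : Over (bS R)} (x y : T ⟶ A),
      M.obj.map (x * y).op (s₀ - f.hom.app (op A) φA) =
        M.obj.map x.op (s₀ - f.hom.app (op A) φA) + M.obj.map y.op (s₀ - f.hom.app (op A) φA) := fun {T} x y => by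
    obtain ⟨q₂, hq₂⟩ := exists_ringMap (Y := T.left) (R := CommRingCat.of (B₂ p R))
      (AdjoinRoot.lift (AdjoinRoot.lift (ringMap T.hom) (Red.gaFn (x ≫ aX p 1 R))
        (by rw [Polynomial.eval₂_X_pow, pow_eq_zero_aX]))
        (Red.gaFn (y ≫ aX p 1 R)) (by rw [Polynomial.eval₂_X_pow, pow_eq_zero_aX]))
    have wj : q₂ ≫ (sObj R (γ₂ p R)).hom = T.hom := by
      refine ringMap_injective (RingHom.ext fun r => ?_)
      refine (ringMap_comp_SpecMap (CommRingCat.ofHom (γ₂ p R)) q₂ r).trans ?_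
      rw [hq₂]
      exact (AdjoinRoot.lift_of _).trans (AdjoinRoot.lift_of _)
    let j : T ⟶ sObj R (γ₂ p R) := Over.homMk q₂ wj
    have hj : ∀ (X : sObj R (γ₂ p R) ⟶ A), Red.gaFn ((j ≫ X) ≫ aX p 1 R) = ringMap q₂ (vB X) := fun X => by
      rw [Category.assoc, GaPoints.gaFn_comp]
      show q₂.appTop (Red.gaFn (X ≫ aX p 1 R)) = _
      show _ = q₂.appTop ((Scheme.ΓSpecIso (CommRingCat.of (B₂ p R))).inv
        ((Scheme.ΓSpecIso (CommRingCat.of (B₂ p R))).hom (Red.gaFn (X ≫ aX p 1 R))))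
      rw [Iso.hom_inv_id_apply]
    have e0 : j ≫ X₀ = x := aObj_hom_ext (GaPoints.gaFn_injective (by
      rw [hj, hX₀, hq₂]
      exact (AdjoinRoot.lift_of _).trans (AdjoinRoot.lift_root _)))
    have e1 : j ≫ X₁ = y := aObj_hom_ext (GaPoints.gaFn_injective (by
      rw [hj, hX₁, hq₂]
      exact AdjoinRoot.lift_root _))
    have e2 := congrArg ((gmSh (bS R)).obj.map j.op) huniv
    rw [map_add, map_add, map_map, map_map, map_map, MonObj.comp_mul, hFnat, e0, e1] at e2
    have e3 := congrArg (f.hom.app (op T)) e2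
    rw [map_add, map_add, hF', app_map, app_map, app_map] at e3
    simp only [map_sub]
    rw [e3]
    abel
  have hgs₁ : g.hom.app (op A) (s₀ - f.hom.app (op A) φA) = aPt (𝟙 A) := by
    rw [map_sub, hgs₀, show g.hom.app (op A) (f.hom.app (op A) φA) = 0 from congr(($w).hom.app (op A) φA), sub_zero]
  refine ⟨⟨{
    app := fun T => AddCommGrpCat.ofHom (AddMonoidHom.mk'
      (fun x => M.obj.map (x.down.toMul : unop T ⟶ A).op (s₀ - f.hom.app (op A) φA))
      fun x y => hadd x.down.toMul y.down.toMul)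
    naturality := fun T T' a => ?_ }⟩, ?_⟩
  · ext x
    exact (map_map a.unop x.down.toMul _).symm
  · ext T x
    show g.hom.app T (M.obj.map (x.down.toMul : unop T ⟶ A).op (s₀ - f.hom.app (op A) φA)) = x
    rw [app_map, hgs₁, aPt_map, Category.comp_id]
    rfl

theorem subsingleton_ext_alphaP (hF : Function.Surjective (frobenius R p)) :
    Subsingleton (Ext.{u + 1} (aSh p 1 R) (gmSh (bS R)) 1) := by
  refine subsingleton_of_forall_eq 0 fun ξ => ?_
  obtain ⟨M, f, g, w, hS, rfl⟩ := ExtOneLib.exists_extension ξ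
  obtain ⟨σ, hσ⟩ := splits_alpha hF hS
  calc hS.extClass = (Ext.mk₀ (σ ≫ g)).comp hS.extClass (zero_add 1) := by rw [hσ, Ext.mk₀_id_comp]
    _ = (Ext.mk₀ σ).comp ((Ext.mk₀ g).comp hS.extClass (zero_add 1)) (zero_add 1) := by
      rw [← Ext.mk₀_comp_mk₀, Ext.comp_assoc_of_second_deg_zero]
    _ = 0 := by
      erw [hS.comp_extClass, Ext.comp_zero]

end One

section Devissage

variable (p n R)

/-- The inclusion of `α_p`. -/
def aIncl : aObj p 1 R ⟶ aObj p (n + 1) R :=
  (exists_toA (p := p) (n := n + 1) (aX p 1 R) (by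
    have h := pow_eq_zero_aX (p := p) (n := 1) (R := R) (𝟙 _)
    rw [Category.id_comp] at h
    exact pow_eq_zero_of_le (Nat.pow_le_pow_right hp.out.pos (by omega)) h)).choose

theorem aIncl_aX : aIncl p n R ≫ aX p (n + 1) R = aX p 1 R :=
  (exists_toA (p := p) (n := n + 1) (aX p 1 R) (by
    have h := pow_eq_zero_aX (p := p) (n := 1) (R := R) (𝟙 _)
    rw [Category.id_comp] at h
    exact pow_eq_zero_of_le (Nat.pow_le_pow_right hp.out.pos (by omega)) h)).choose_spec

theorem exists_frob : ∃ g : aObj p (n + 1) R ⟶ aObj p n R,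
    Red.gaFn (g ≫ aX p n R) = Red.gaFn (aX p (n + 1) R) ^ p := by
  obtain ⟨v, hv⟩ := GaPoints.gaFn_surjective (X := aObj p (n + 1) R) (Red.gaFn (aX p (n + 1) R) ^ p)
  obtain ⟨g, hg⟩ := exists_toA (p := p) (n := n) v (by
    have h := pow_eq_zero_aX (p := p) (n := n + 1) (R := R) (𝟙 _)
    rw [Category.id_comp] at h
    rw [hv, ← pow_mul, ← pow_succ', h])
  exact ⟨g, by rw [hg, hv]⟩

/-- The Frobenius onto `α_{p^n}`. -/
def aFrob : aObj p (n + 1) R ⟶ aObj p n R := (exists_frob p n R).choose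

theorem aFrob_aX {T : Over (bS R)} (x : T ⟶ aObj p (n + 1) R) :
    Red.gaFn ((x ≫ aFrob p n R) ≫ aX p n R) = Red.gaFn (x ≫ aX p (n + 1) R) ^ p := by
  rw [Category.assoc, GaPoints.gaFn_comp, show aFrob p n R = (exists_frob p n R).choose from rfl,
    (exists_frob p n R).choose_spec, map_pow, ← GaPoints.gaFn_comp]

instance isMonHom_aIncl : IsMonHom (aIncl p n R) := by
  refine isMonHom_of_mul _ fun {T} a b => aObj_hom_ext ?_
  rw [Category.assoc, aIncl_aX, MonObj.mul_comp, MonObj.mul_comp, Category.assoc, Category.assoc, aIncl_aX]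

instance isMonHom_aFrob : IsMonHom (aFrob p n R) := by
  refine isMonHom_of_mul _ fun {T} a b => aObj_hom_ext (GaPoints.gaFn_injective ?_)
  rw [gaFn_mul_comp, aFrob_aX, aFrob_aX, aFrob_aX, gaFn_mul_comp, add_pow_p (cast_gamma T)]

theorem aIncl_aFrob : aIncl p n R ≫ aFrob p n R = 1 := by
  refine aObj_hom_ext (GaPoints.gaFn_injective ?_)
  rw [aFrob_aX, aIncl_aX, MonObj.one_comp, GaPoints.gaFn_one]
  have h := pow_eq_zero_aX (p := p) (n := 1) (R := R) (𝟙 _)
  rwa [Category.id_comp, pow_one] at h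

theorem exists_root {T : Over (bS R)} (b : T ⟶ Red.Ga (bS R)) :
    ∃ (T' : Over (bS R)) (c : T' ⟶ T) (r : T' ⟶ Red.Ga (bS R)), IsCov c ∧
      Red.gaFn r ^ p = Red.gaFn (c ≫ b) := by
  haveI : Nontrivial R := CharP.nontrivial_of_char_ne_one (v := p) hp.out.ne_one
  let Q : Polynomial (MvPolynomial Unit R) := Polynomial.X ^ p - Polynomial.C (MvPolynomial.X ())
  let S' := AdjoinRoot Q
  have hQ : Q.Monic := Polynomial.monic_X_pow_sub_C _ hp.out.ne_zero
  haveI : Module.Free (MvPolynomial Unit R) S' := hQ.free_adjoinRoot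
  haveI : Module.Finite (MvPolynomial Unit R) S' := hQ.finite_adjoinRoot
  haveI : Nontrivial S' :=
    ⟨⟨_, 0, (AdjoinRoot.powerBasis' hQ).basis.ne_zero ⟨0, by
      rw [AdjoinRoot.powerBasis'_dim]
      exact (show Q.natDegree = p from Polynomial.natDegree_X_pow_sub_C).symm ▸ hp.out.pos⟩⟩⟩
  haveI : Module.FaithfullyFlat (MvPolynomial Unit R) S' := inferInstance
  let φ : Spec (CommRingCat.of S') ⟶ (polyObj R Unit).left :=
    Spec.map (CommRingCat.ofHom (algebraMap (MvPolynomial Unit R) S'))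
  haveI : Flat φ := HasRingHomProperty.Spec_iff.2 (RingHom.flat_algebraMap_iff.2 (inferInstance : Module.Flat (MvPolynomial Unit R) S'))
  haveI : LocallyOfFinitePresentation φ := HasRingHomProperty.Spec_iff.2 (by
    show RingHom.FinitePresentation (algebraMap (MvPolynomial Unit R) S')
    exact RingHom.finitePresentation_algebraMap.2 inferInstance)
  haveI : Surjective φ := ⟨PrimeSpectrum.comap_surjective_of_faithfullyFlat (A := MvPolynomial Unit R) (B := S')⟩
  obtain ⟨j, hj⟩ := exists_toPoly (σ := Unit) (fun _ => b)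
  let T' : Over (bS R) := Over.mk (pullback.fst j.left φ ≫ T.hom)
  let c : T' ⟶ T := Over.homMk (pullback.fst j.left φ) rfl
  obtain ⟨r, hr⟩ := GaPoints.gaFn_surjective (X := T') (ringMap (pullback.snd j.left φ) (AdjoinRoot.root Q))
  refine ⟨T', c, r, ⟨?_, ?_, ?_⟩, ?_⟩
  · exact inferInstanceAs (Flat (pullback.fst j.left φ))
  · exact inferInstanceAs (LocallyOfFinitePresentation (pullback.fst j.left φ))
  · exact inferInstanceAs (Surjective (pullback.fst j.left φ))
  · rw [hr, ← hj (), ← Category.assoc, gaFn_comp_polyX]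
    refine (map_pow (ringMap (pullback.snd j.left φ)) _ _).symm.trans ?_
    show ringMap (pullback.snd j.left φ) (AdjoinRoot.root Q ^ p) =
      ringMap (pullback.fst j.left φ ≫ j.left) (MvPolynomial.X ())
    have hroot : AdjoinRoot.root Q ^ p = algebraMap (MvPolynomial Unit R) S' (MvPolynomial.X ()) := by
      have h := AdjoinRoot.eval₂_root Q
      simp only [Q, Polynomial.eval₂_sub, Polynomial.eval₂_X_pow, Polynomial.eval₂_C, sub_eq_zero] at h
      exact h
    rw [pullback.condition, hroot]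
    exact (ringMap_comp_SpecMap (CommRingCat.ofHom (algebraMap (MvPolynomial Unit R) S')) _ _).symm

theorem shortExact_seq :
    (CGrpSh.seq Scheme.fppfPrecoverage (aIncl p n R) (aFrob p n R) (aIncl_aFrob p n R)).ShortExact := by
  let i : aSh p 1 R ⟶ aSh p (n + 1) R := CGrpSh.ptsMap Scheme.fppfPrecoverage (aIncl p n R)
  let q : aSh p (n + 1) R ⟶ aSh p n R := CGrpSh.ptsMap Scheme.fppfPrecoverage (aFrob p n R)
  haveI hi : Mono i := DualExt.mono_of_injective i fun T x y h => by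
    have h' : (x.down.toMul : T ⟶ aObj p 1 R) ≫ aIncl p n R = y.down.toMul ≫ aIncl p n R :=
      congrArg (fun z : (aSh p (n + 1) R).obj.obj (op T) => (z.down.toMul : T ⟶ aObj p (n + 1) R)) h
    refine ULift.ext _ _ (Additive.toMul.injective (aObj_hom_ext ?_))
    have h2 := congrArg (· ≫ aX p (n + 1) R) h'
    simpa only [Category.assoc, aIncl_aX] using h2
  haveI hq : Epi q := DualExt.epi_of_local_lift q fun T z => by
    obtain ⟨T', c, r, hc, hr⟩ := exists_root p R ((z.down.toMul : T ⟶ aObj p n R) ≫ aX p n R)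
    obtain ⟨y, hy⟩ := exists_toA (p := p) (n := n + 1) r (by
      rw [pow_succ', pow_mul, hr, ← Category.assoc, pow_eq_zero_aX])
    refine ⟨T', c, hc, aPt y, ULift.ext _ _ (Additive.toMul.injective (aObj_hom_ext (GaPoints.gaFn_injective ?_)))⟩
    show Red.gaFn ((y ≫ aFrob p n R) ≫ aX p n R) = Red.gaFn ((c ≫ z.down.toMul) ≫ aX p n R)
    rw [aFrob_aX, hy, hr, Category.assoc]
  refine ShortComplex.ShortExact.mk' ?_ hi hq
  refine ShortComplex.exact_of_f_is_kernel _ (KernelFork.IsLimit.ofι' _ _ (hi := hi) fun {A} k hk => ?_)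
  have hex : ∀ (T : Over (bS R)) (a : A.obj.obj (op T)),
      ∃ b : (aSh p 1 R).obj.obj (op T), i.hom.app (op T) b = k.hom.app (op T) a := fun T a => by
    let y : T ⟶ aObj p (n + 1) R := (k.hom.app (op T) a).down.toMul
    have h₀ : q.hom.app (op T) (k.hom.app (op T) a) = 0 := congr(($hk).hom.app (op T) a)
    have h₁ : y ≫ aFrob p n R = 1 :=
      congrArg (fun z : (aSh p n R).obj.obj (op T) => (z.down.toMul : T ⟶ aObj p n R)) h₀
    have h₂ : Red.gaFn (y ≫ aX p (n + 1) R) ^ (p ^ 1) = 0 := by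
      rw [pow_one, ← aFrob_aX, h₁, MonObj.one_comp, GaPoints.gaFn_one]
    obtain ⟨b, hb⟩ := exists_toA (p := p) (n := 1) _ h₂
    refine ⟨aPt b, ULift.ext _ _ (Additive.toMul.injective (aObj_hom_ext ?_))⟩
    show (b ≫ aIncl p n R) ≫ aX p (n + 1) R = y ≫ aX p (n + 1) R
    rw [Category.assoc, aIncl_aX, hb]
  choose l hl using hex
  refine ⟨⟨{
    app := fun T => AddCommGrpCat.ofHom
      (X := (A.obj.obj (op (unop T)) : Type (u + 1))) (Y := ((aSh p 1 R).obj.obj (op (unop T)) : Type (u + 1)))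
      (AddMonoidHom.mk' (M := (A.obj.obj (op (unop T)) : Type (u + 1))) (G := ((aSh p 1 R).obj.obj (op (unop T)) : Type (u + 1)))
        (fun a => l (unop T) a) fun a b => injective_app i (unop T) (by
          rw [map_add, hl, hl, hl, map_add]))
    naturality := fun T T' j => ?_ }⟩, ?_⟩
  · ext a
    refine injective_app i (unop T') ?_
    show i.hom.app T' (l (unop T') (A.obj.map j a)) = i.hom.app T' ((aSh p 1 R).obj.map j (l (unop T) a))
    rw [hl, NatTrans.naturality_apply, NatTrans.naturality_apply, hl]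
    rfl
  · refine Sheaf.hom_ext (NatTrans.ext (funext fun T => AddCommGrpCat.ext fun a => ?_))
    exact hl (unop T) a

theorem subsingleton_ext_alphaPn (hF : Function.Surjective (frobenius R p)) :
    Subsingleton (Ext.{u + 1} (aSh p n R) (gmSh (bS R)) 1) := by
  induction n with
  | zero =>
    refine subsingleton_of_forall_eq 0 fun x => ?_
    have h0 : 𝟙 (aSh p 0 R) = 0 := by
      refine Sheaf.hom_ext (NatTrans.ext (funext fun T => AddCommGrpCat.ext fun z => ?_))
      refine ULift.ext _ _ (Additive.toMul.injective (aObj_hom_ext (GaPoints.gaFn_injective ?_)))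
      show Red.gaFn ((z.down.toMul : unop T ⟶ aObj p 0 R) ≫ aX p 0 R) = Red.gaFn ((1 : unop T ⟶ aObj p 0 R) ≫ aX p 0 R)
      have h1 := pow_eq_zero_aX (p := p) (n := 0) (R := R) (z.down.toMul : unop T ⟶ aObj p 0 R)
      rw [pow_zero, pow_one] at h1
      rw [h1, MonObj.one_comp, GaPoints.gaFn_one]
    rw [← Ext.mk₀_id_comp x, h0, Ext.mk₀_zero, Ext.zero_comp]
  | succ n ih => exact subsingleton_ext_middle (shortExact_seq p n R) _ (subsingleton_ext_alphaP hF) ih

end Devissage

end Groth.Agent.GaDualLib.AlphaExt
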