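import Groth.Agent.GaDualLib.ExtOne

/-!
# First cohomology of the dual of the additive group
-/

set_option autoImplicit false
set_option backward.isDefEq.respectTransparency false
set_option backward.isDefEq.respectTransparency.types false
set_option linter.style.haveILetI false

universe u

open CategoryTheory CategoryTheory.Limits AlgebraicGeometry Opposite MonoidalCategory CartesianMonoidalCategory MonObj
open CategoryTheory.Abelian

noncomputable section

namespace Groth.Agent.GaDualLib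

variable {S : Scheme.{u}}

/-- The dual of the additive group. -/
abbrev dualGa (S : Scheme.{u}) : BigSite.Ab Scheme.fppfPrecoverage S :=
  CGrpSh2.dualSh Scheme.fppfPrecoverage (gaSh S)

/-- The value of a local character at a point. -/
def appD {W : Over S} (φ : (dualGa S).obj.obj (op W)) (V : Over W) (x : V.left ⟶ Red.Ga S) :
    (gmSh S).obj.obj (op V.left) :=
  (show (gaSh S).over W ⟶ (gmSh S).over W from φ).hom.app (op V) (gaPt x)

theorem appD_map {W : Over S} (φ : (dualGa S).obj.obj (op W)) {V V' : Over W} (j : V' ⟶ V) (x : V.left ⟶ Red.Ga S) :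
    (gmSh S).obj.map j.left.op (appD φ V x) = appD φ V' (j.left ≫ x) :=
  (NatTrans.naturality_apply (show (gaSh S).over W ⟶ (gmSh S).over W from φ).hom j.op (gaPt x)).symm

/-- The value of a global character at a point. -/
def evD {W : Over S} (φ : (dualGa S).obj.obj (op W)) (x : W ⟶ Red.Ga S) : (gmSh S).obj.obj (op W) :=
  appD φ (Over.mk (𝟙 W)) x

theorem evD_restrict {W W' : Over S} (φ : (dualGa S).obj.obj (op W)) (f : W' ⟶ W) (x : W' ⟶ Red.Ga S) :
    evD ((dualGa S).obj.map f.op φ) x = appD φ (Over.mk (𝟙 W' ≫ f)) x := rfl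

theorem evD_map {W W' : Over S} (φ : (dualGa S).obj.obj (op W)) (f : W' ⟶ W) (x : W ⟶ Red.Ga S) :
    evD ((dualGa S).obj.map f.op φ) (f ≫ x) = (gmSh S).obj.map f.op (evD φ x) :=
  (appD_map φ (Over.homMk f (by simp) : Over.mk (𝟙 W' ≫ f) ⟶ Over.mk (𝟙 W)) x).symm

theorem evD_add {W : Over S} (φ ψ : (dualGa S).obj.obj (op W)) (x : W ⟶ Red.Ga S) :
    evD (φ + ψ) x = evD φ x + evD ψ x := rfl

theorem evD_mul {W : Over S} (φ : (dualGa S).obj.obj (op W)) (x y : W ⟶ Red.Ga S) :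
    evD φ (x * y) = evD φ x + evD φ y := by
  unfold evD appD
  erw [gaPt_mul x y, map_add]

theorem evD_one {W : Over S} (φ : (dualGa S).obj.obj (op W)) : evD φ (1 : W ⟶ Red.Ga S) = 0 := by
  unfold evD appD
  erw [gaPt_one, map_zero]

theorem evD_ext {W : Over S} {φ ψ : (dualGa S).obj.obj (op W)}
    (h : ∀ {V : Over S} (f : V ⟶ W) (x : V ⟶ Red.Ga S),
      evD ((dualGa S).obj.map f.op φ) x = evD ((dualGa S).obj.map f.op ψ) x) : φ = ψ := by
  have e : ∀ (V : Over W) (x : V.left ⟶ Red.Ga S), appD φ V x = appD ψ V x := fun V x => by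
    let j : V ⟶ Over.mk (𝟙 V.left ≫ V.hom) := Over.homMk (𝟙 V.left) (by simp)
    have e' := congrArg ((gmSh S).obj.map j.left.op) (h V.hom x)
    rw [evD_restrict, evD_restrict, appD_map, appD_map] at e'
    simpa [j] using e'
  apply Sheaf.hom_ext
  refine NatTrans.ext (funext fun V => AddCommGrpCat.ext fun z => ?_)
  exact e (unop V) z.down.toMul

/-- A character from compatible additive families of values. -/
def mkD {U : Over S} (K : ∀ {W : Over S}, (W ⟶ U) → (W ⟶ Red.Ga S) → (gmSh S).obj.obj (op W))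
    (hmap : ∀ {W W' : Over S} (j : W' ⟶ W) (v : W ⟶ U) (x : W ⟶ Red.Ga S),
      (gmSh S).obj.map j.op (K v x) = K (j ≫ v) (j ≫ x))
    (hadd : ∀ {W : Over S} (v : W ⟶ U) (x y : W ⟶ Red.Ga S), K v (x * y) = K v x + K v y) :
    (dualGa S).obj.obj (op U) :=
  (⟨{ app := fun V => (AddCommGrpCat.ofHom
        (X := ((gaSh S).obj.obj (op (unop V).left) : Type (u + 1))) (Y := ((gmSh S).obj.obj (op (unop V).left) : Type (u + 1)))
        (AddMonoidHom.mk' (M := ((gaSh S).obj.obj (op (unop V).left) : Type (u + 1)))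
          (G := ((gmSh S).obj.obj (op (unop V).left) : Type (u + 1)))
          (fun z => K (unop V).hom z.down.toMul) fun y z => hadd (unop V).hom y.down.toMul z.down.toMul))
      naturality := fun V V' j => by
        ext z
        show K (unop V').hom (j.unop.left ≫ z.down.toMul) = (gmSh S).obj.map j.unop.left.op (K (unop V).hom z.down.toMul)
        rw [hmap, Over.w] }⟩ : (gaSh S).over U ⟶ (gmSh S).over U)

theorem evD_mkD {U : Over S} (K : ∀ {W : Over S}, (W ⟶ U) → (W ⟶ Red.Ga S) → (gmSh S).obj.obj (op W))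
    (hmap : ∀ {W W' : Over S} (j : W' ⟶ W) (v : W ⟶ U) (x : W ⟶ Red.Ga S),
      (gmSh S).obj.map j.op (K v x) = K (j ≫ v) (j ≫ x))
    (hadd : ∀ {W : Over S} (v : W ⟶ U) (x y : W ⟶ Red.Ga S), K v (x * y) = K v x + K v y)
    {W : Over S} (j : W ⟶ U) (x : W ⟶ Red.Ga S) :
    evD ((dualGa S).obj.map j.op (mkD K hmap hadd)) x = K j x :=
  (show appD (mkD K hmap hadd) (Over.mk (𝟙 W ≫ j)) x = K (𝟙 W ≫ j) x from rfl).trans (by rw [Category.id_comp])

theorem isCov_snd {U T : Over S} (hf : Flat U.hom) (hl : LocallyOfFinitePresentation U.hom) (hs : Surjective U.hom) :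
    IsCov (snd U T) := by
  refine ⟨?_, ?_, ?_⟩ <;>
    (rw [Over.snd_left]; infer_instance)

theorem exists_global_preimage [IsReduced S]
    (hPic : ∀ L : (Red.Ga S).left.Modules, PicF.IsInvertible L → Nonempty (L ≅ Coh.structureModule (Red.Ga S).left))
    {M N : BigSite.Ab Scheme.fppfPrecoverage S} {f : dualGa S ⟶ M} {g : M ⟶ N} {w : f ≫ g = 0}
    (hS : (ShortComplex.mk f g w).ShortExact) {T₀ : Over S} (hT : IsTerminal T₀) (one : N.obj.obj (op T₀))
    (hT' : IsIso T₀.hom) :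
    ∃ m, g.hom.app (op T₀) m = one := by
  haveI : Epi g := hS.epi_g
  haveI : Mono f := hS.mono_f
  obtain ⟨U, c, hc, m', hm'⟩ := exists_lift g one
  haveI : Flat U.hom := by rw [← Over.w c]; haveI := hc.1; infer_instance
  haveI : LocallyOfFinitePresentation U.hom := by rw [← Over.w c]; haveI := hc.2.1; infer_instance
  haveI : Surjective U.hom := by rw [← Over.w c]; haveI := hc.2.2; infer_instance
  have hd₀ : ∀ {W : Over S} (a b : W ⟶ U),
      ∃ x, f.hom.app (op W) x = M.obj.map b.op m' - M.obj.map a.op m' := fun {W} a b => by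
    refine exists_preimage hS W _ ?_
    rw [map_sub, app_map, app_map, hm', map_map, map_map, hT.hom_ext (a ≫ c) (b ≫ c), sub_self]
  choose d hd using @hd₀
  have hdmap : ∀ {W W' : Over S} (j : W' ⟶ W) (a b : W ⟶ U),
      (dualGa S).obj.map j.op (d a b) = d (j ≫ a) (j ≫ b) := fun {W W'} j a b => injective_app f W' (by
    rw [app_map, hd, hd, map_sub, map_map, map_map])
  have hdadd : ∀ {W : Over S} (a b c' : W ⟶ U), d a b + d b c' = d a c' := fun {W} a b c' => injective_app f W (by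
    rw [map_add, hd, hd, hd]; abel)
  have hcA : IsCov (snd U (Red.Ga S)) := isCov_snd inferInstance inferInstance inferInstance
  obtain ⟨k, hk⟩ := exists_gm_coboundary hcA hPic
    (fun a b _ => evD (d (a ≫ fst U (Red.Ga S)) (b ≫ fst U (Red.Ga S))) (a ≫ snd U (Red.Ga S)))
    (fun {Z Z'} j a b e e' => by
      rw [← evD_map, hdmap, Category.assoc, Category.assoc, Category.assoc])
    (fun {Z} a b c' e₁ e₂ => by rw [← e₁, ← evD_add, hdadd])
  let o : U ⊗ (Red.Ga S) ⟶ U ⊗ (Red.Ga S) := lift (fst U (Red.Ga S)) 1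
  let k₀ := k - (gmSh S).obj.map o.op k
  let K : ∀ {W : Over S}, (W ⟶ U) → (W ⟶ (Red.Ga S)) → (gmSh S).obj.obj (op W) := fun v x => (gmSh S).obj.map (lift v x).op k₀
  have hKmap : ∀ {W W' : Over S} (j : W' ⟶ W) (v : W ⟶ U) (x : W ⟶ (Red.Ga S)),
      (gmSh S).obj.map j.op (K v x) = K (j ≫ v) (j ≫ x) := fun j v x => by
    simp only [K, map_map, comp_lift]
  have ho : ∀ {W : Over S} (v : W ⟶ U) (x : W ⟶ (Red.Ga S)), lift v x ≫ o = lift v 1 := fun v x => by
    simp only [o, comp_lift, lift_fst, MonObj.comp_one]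
  have hK1 : ∀ {W : Over S} (v : W ⟶ U), K v (1 : W ⟶ (Red.Ga S)) = 0 := fun v => by
    simp only [K, k₀, map_sub, map_map, ho, sub_self]
  have hrel : ∀ {W : Over S} (a b : W ⟶ U) (x : W ⟶ (Red.Ga S)), evD (d a b) x + K a x = K b x := fun {W} a b x => by
    have h1 := hk (lift a x) (lift b x) (by rw [lift_snd, lift_snd])
    have h0 := hk (lift a (1 : W ⟶ (Red.Ga S))) (lift b 1) (by rw [lift_snd, lift_snd])
    simp only [lift_fst, lift_snd] at h1 h0
    rw [evD_one, zero_add] at h0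
    simp only [K, k₀, map_sub, map_map, ho]
    rw [← h1, h0]
    abel
  let m : (Red.Ga S ⊗ Red.Ga S) ⟶ (Red.Ga S) := fst (Red.Ga S) (Red.Ga S) * snd (Red.Ga S) (Red.Ga S)
  have hcP : IsCov (snd U (Red.Ga S ⊗ Red.Ga S)) := isCov_snd inferInstance inferInstance inferInstance
  let h := K (fst U (Red.Ga S ⊗ Red.Ga S)) (snd U (Red.Ga S ⊗ Red.Ga S) ≫ m) - K (fst U (Red.Ga S ⊗ Red.Ga S)) (snd U (Red.Ga S ⊗ Red.Ga S) ≫ fst (Red.Ga S) (Red.Ga S)) - K (fst U (Red.Ga S ⊗ Red.Ga S)) (snd U (Red.Ga S ⊗ Red.Ga S) ≫ snd (Red.Ga S) (Red.Ga S))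
  obtain ⟨hb, hhb, -⟩ := existsUnique_descent (gmSh S) hcP h fun {Z} a b e => by
    simp only [h, map_sub, hKmap]
    rw [← reassoc_of% e, ← reassoc_of% e, ← reassoc_of% e, ← hrel (a ≫ fst U (Red.Ga S ⊗ Red.Ga S)) (b ≫ fst U (Red.Ga S ⊗ Red.Ga S)),
      ← hrel (a ≫ fst U (Red.Ga S ⊗ Red.Ga S)) (b ≫ fst U (Red.Ga S ⊗ Red.Ga S)), ← hrel (a ≫ fst U (Red.Ga S ⊗ Red.Ga S)) (b ≫ fst U (Red.Ga S ⊗ Red.Ga S))]
    simp only [m, MonObj.comp_mul]
    erw [evD_mul]
    abel
  have hhb0 : hb = 0 := by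
    refine eq_of_map_eq (gmSh S) hcP ?_
    rw [map_zero, map_square_eq hb, map_map,
      show snd U (Red.Ga S ⊗ Red.Ga S) ≫ (1 : (Red.Ga S ⊗ Red.Ga S) ⟶ (Red.Ga S ⊗ Red.Ga S)) = lift (fst U (Red.Ga S ⊗ Red.Ga S)) (1 : U ⊗ (Red.Ga S ⊗ Red.Ga S) ⟶ (Red.Ga S ⊗ Red.Ga S)) ≫ snd U (Red.Ga S ⊗ Red.Ga S) by rw [lift_snd, MonObj.comp_one],
      ← map_map, hhb]
    simp only [h, map_sub, hKmap, m, MonObj.comp_mul, ← Category.assoc, lift_snd, MonObj.one_comp,
      MonObj.comp_one, _root_.mul_one, hK1, sub_zero]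
  have hKadd : ∀ {W : Over S} (v : W ⟶ U) (x y : W ⟶ (Red.Ga S)), K v (x * y) = K v x + K v y := fun {W} v x y => by
    have e := congrArg ((gmSh S).obj.map (lift v (lift x y)).op) hhb
    rw [hhb0, map_zero, map_zero] at e
    simp only [h, map_sub, hKmap, m, MonObj.comp_mul, ← Category.assoc, lift_fst, lift_snd] at e
    exact (sub_eq_zero.1 ((sub_sub _ _ _).symm.trans e.symm))
  let κ : (dualGa S).obj.obj (op U) := mkD K hKmap hKadd
  have hκ : ∀ {W : Over S} (j : W ⟶ U) (x : W ⟶ Red.Ga S), evD ((dualGa S).obj.map j.op κ) x = K j x :=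
    fun {W} j x => evD_mkD K hKmap hKadd j x
  have hκd : ∀ {W : Over S} (a b : W ⟶ U),
      d a b + (dualGa S).obj.map a.op κ = (dualGa S).obj.map b.op κ := fun {W} a b => evD_ext fun {V} j x => by
    rw [map_add, evD_add, hdmap, map_map, map_map, hκ, hκ, hrel]
  obtain ⟨s, hs, -⟩ := existsUnique_descent M hc (m' - f.hom.app (op U) κ) fun {Z} a b _ => by
    have e := congrArg (f.hom.app (op Z)) (hκd a b)
    rw [map_add, hd, app_map, app_map] at e
    simp only [map_sub]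
    rw [← e]
    abel
  refine ⟨s, eq_of_map_eq N hc ?_⟩
  rw [← app_map, hs, map_sub, hm']
  have : g.hom.app (op U) (f.hom.app (op U) κ) = 0 := congr(($w).hom.app (op U) κ)
  rw [this, sub_zero]

/-- `H¹` of the dual of the additive group. -/
theorem subsingleton_H_one [IsReduced S]
    (hPic : ∀ L : (Red.Ga S).left.Modules, PicF.IsInvertible L → Nonempty (L ≅ Coh.structureModule (Red.Ga S).left)) :
    Subsingleton (BigSite.H Scheme.fppfPrecoverage S (dualGa S) 1) := by
  refine subsingleton_of_forall_eq 0 fun ξ => ?_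
  obtain ⟨M, f, g, w, hS, rfl⟩ := ExtOneLib.exists_extension ξ
  let T₀ : Over S := Over.mk (𝟙 S)
  let hT : IsTerminal T₀ := Over.mkIdTerminal
  let adj := constantSheafAdj (QuotSh.J Scheme.fppfPrecoverage S) AddCommGrpCat.{u + 1} hT
  let ut := adj.unit.app (AddCommGrpCat.of (ULift.{u + 1} ℤ))
  obtain ⟨m, hm⟩ := exists_global_preimage hPic hS hT (ut (ULift.up 1)) (inferInstanceAs (IsIso (𝟙 S)))
  let φ : AddCommGrpCat.of (ULift.{u + 1} ℤ) ⟶ M.obj.obj (op T₀) :=
    AddCommGrpCat.ofHom ((zmultiplesHom _ m).comp AddEquiv.ulift.toAddMonoidHom)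
  let σ := (adj.homEquiv _ M).symm φ
  have hσ : σ ≫ g = 𝟙 _ := by
    refine (adj.homEquiv _ _).injective ?_
    rw [Adjunction.homEquiv_naturality_right, Equiv.apply_symm_apply, Adjunction.homEquiv_unit]
    refine AddCommGrpCat.ext fun z => ?_
    obtain ⟨z⟩ := z
    have e : (ULift.up z : ULift.{u + 1} ℤ) = z • ULift.up 1 := by
      apply ULift.ext
      simp
    rw [e, map_zsmul, map_zsmul]
    congr 1
    show g.hom.app (op T₀) ((1 : ℤ) • m) = _
    rw [one_smul, hm]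
    simp [ut]
  calc hS.extClass = (Ext.mk₀ (σ ≫ g)).comp hS.extClass (zero_add 1) := by rw [hσ, Ext.mk₀_id_comp]
    _ = (Ext.mk₀ σ).comp ((Ext.mk₀ g).comp hS.extClass (zero_add 1)) (zero_add 1) := by
      rw [← Ext.mk₀_comp_mk₀, Ext.comp_assoc_of_second_deg_zero]
    _ = 0 := by
      erw [hS.comp_extClass, Ext.comp_zero]

end Groth.Agent.GaDualLib
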