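import Groth.Prelude.Def_AlphaPn
import Mathlib.Algebra.Polynomial.Derivative
import Mathlib.FieldTheory.Perfect
import Mathlib.NumberTheory.Wilson
import Mathlib.Algebra.CharP.Invertible
import Mathlib.Data.Nat.Prime.Factorial

/-!
# Multiplicative cocycles on truncated polynomials split

A normalised cocycle `h(x, y)` on `α_p` with values in units is a coboundary: its logarithmic derivative in `y` is
`g(x + y) - g(y)`, and `g` plus a constant is a logarithmic derivative as soon as `p`-th roots exist.
-/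

set_option autoImplicit false
set_option backward.isDefEq.respectTransparency false
set_option backward.isDefEq.respectTransparency.types false

universe u

open Polynomial

noncomputable section

namespace Groth.Agent.GaDualLib.AlphaCoc

variable (p : ℕ) [hp : Fact p.Prime]

/-- Truncated polynomials. -/
abbrev P (A : Type u) [CommRing A] : Type u := AlphaPn.A p 1 A

section Basic

variable (A : Type u) [CommRing A]

/-- Constants. -/
abbrev cst : A →+* P p A := algebraMap A (P p A)

/-- The variable. -/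
abbrev xv : P p A := AlphaPn.x p 1 A

/-- The value at zero. -/
def ev0 : P p A →+* A := (AlphaPn.lift p 1 A (0 : A) (zero_pow (pow_ne_zero 1 hp.out.ne_zero))).toRingHom

@[simp] theorem ev0_x : ev0 p A (xv p A) = 0 := AlphaPn.lift_x _ _

@[simp] theorem ev0_cst (a : A) : ev0 p A (cst p A a) = a :=
  (AlphaPn.lift p 1 A (0 : A) (zero_pow (pow_ne_zero 1 hp.out.ne_zero))).commutes a

theorem xv_pow : xv p A ^ p = 0 := by
  have h := AlphaPn.x_pow p 1 A
  rwa [pow_one] at h

theorem mk_C (a : A) : AlphaPn.mk p 1 A (C a) = cst p A a := (AlphaPn.mk p 1 A).commutes a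

theorem mk_eq_zero_iff (f : A[X]) : AlphaPn.mk p 1 A f = 0 ↔ (X : A[X]) ^ p ∣ f := by
  conv_rhs => rw [show p = p ^ 1 from (pow_one p).symm]
  exact AdjoinRoot.mk_eq_zero

theorem exists_rep [Nontrivial A] (u : P p A) : ∃ f : A[X], f.natDegree < p ∧ AlphaPn.mk p 1 A f = u := by
  obtain ⟨f₀, hf₀⟩ := AlphaPn.mk_surjective p 1 A u
  refine ⟨f₀ %ₘ X ^ p, ?_, ?_⟩
  · have h := natDegree_modByMonic_lt f₀ (monic_X_pow p) (by
      intro h
      have := congrArg natDegree h
      rw [natDegree_X_pow, natDegree_one] at this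
      exact hp.out.ne_zero this)
    rwa [natDegree_X_pow] at h
  · rw [← hf₀, ← sub_eq_zero, ← map_sub, mk_eq_zero_iff, modByMonic_eq_sub_mul_div]
    exact ⟨-(f₀ /ₘ X ^ p), by ring⟩

theorem exists_sum [Nontrivial A] (u : P p A) :
    ∃ c : ℕ → A, u = ∑ i ∈ Finset.range p, cst p A (c i) * xv p A ^ i := by
  obtain ⟨f, hf, rfl⟩ := exists_rep p A u
  refine ⟨f.coeff, ?_⟩
  conv_lhs => rw [f.as_sum_range_C_mul_X_pow' hf, map_sum]
  exact Finset.sum_congr rfl fun i _ => by rw [map_mul, map_pow, mk_C, AlphaPn.mk_X]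

variable [CharP A p]

omit hp in
theorem cast_self : (p : A[X]) = 0 := by rw [← map_natCast (C : A →+* A[X]), CharP.cast_eq_zero, map_zero]

/-- Differentiation. -/
def D (u : P p A) : P p A := AlphaPn.mk p 1 A (derivative (AlphaPn.mk_surjective p 1 A u).choose)

theorem D_mk (f : A[X]) : D p A (AlphaPn.mk p 1 A f) = AlphaPn.mk p 1 A (derivative f) := by
  have h := (AlphaPn.mk_surjective p 1 A (AlphaPn.mk p 1 A f)).choose_spec
  obtain ⟨q, hq⟩ := (mk_eq_zero_iff p A _).1 (sub_eq_zero.2 h ▸ map_sub (AlphaPn.mk p 1 A) _ f)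
  refine sub_eq_zero.1 ((map_sub (AlphaPn.mk p 1 A) _ _).symm.trans ?_)
  rw [← derivative_sub, hq, derivative_mul, derivative_X_pow, CharP.cast_eq_zero, map_zero, zero_mul, zero_mul,
    zero_add, mk_eq_zero_iff]
  exact dvd_mul_right _ _

theorem D_add (u v : P p A) : D p A (u + v) = D p A u + D p A v := by
  obtain ⟨f, rfl⟩ := AlphaPn.mk_surjective p 1 A u
  obtain ⟨g, rfl⟩ := AlphaPn.mk_surjective p 1 A v
  rw [← map_add, D_mk, D_mk, D_mk, derivative_add, map_add]

theorem D_mul (u v : P p A) : D p A (u * v) = D p A u * v + u * D p A v := by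
  obtain ⟨f, rfl⟩ := AlphaPn.mk_surjective p 1 A u
  obtain ⟨g, rfl⟩ := AlphaPn.mk_surjective p 1 A v
  rw [← map_mul, D_mk, D_mk, D_mk, derivative_mul, map_add, map_mul, map_mul]

theorem D_cst (a : A) : D p A (cst p A a) = 0 := by
  rw [← mk_C, D_mk, derivative_C, map_zero]

theorem D_x : D p A (xv p A) = 1 := by
  rw [show xv p A = AlphaPn.mk p 1 A X from rfl, D_mk, derivative_X, map_one]

theorem D_one : D p A 1 = 0 := by
  rw [← map_one (cst p A), D_cst]

theorem D_zero : D p A 0 = 0 := by
  rw [← map_zero (cst p A), D_cst, map_zero]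

theorem D_sum {ι : Type} (s : Finset ι) (f : ι → P p A) : D p A (∑ i ∈ s, f i) = ∑ i ∈ s, D p A (f i) :=
  map_sum (AddMonoidHom.mk' (D p A) (D_add p A)) f s

theorem D_pow (u : P p A) (n : ℕ) : D p A (u ^ n) = n * u ^ (n - 1) * D p A u := by
  obtain ⟨f, rfl⟩ := AlphaPn.mk_surjective p 1 A u
  rw [← map_pow, D_mk, D_mk, derivative_pow, map_mul, map_mul, map_pow]
  simp

theorem eq_cst_of_D_eq_zero (u : P p A) (h : D p A u = 0) : u = cst p A (ev0 p A u) := by
  haveI : Nontrivial A := CharP.nontrivial_of_char_ne_one (v := p) hp.out.ne_one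
  obtain ⟨f, hf, rfl⟩ := exists_rep p A u
  rw [D_mk, mk_eq_zero_iff] at h
  have h' : derivative f = 0 := by
    by_contra h0
    refine (monic_X_pow p).not_dvd_of_natDegree_lt h0 ?_ h
    rw [natDegree_X_pow]
    exact (natDegree_derivative_le f).trans_lt (lt_of_le_of_lt (Nat.sub_le _ _) hf)
  have hfC : f = C (f.coeff 0) := by
    ext n
    rcases n with _ | n
    · rw [coeff_C_zero]
    · rw [coeff_C_succ]
      by_cases hn : n + 1 < p
      · have h1 := congrArg (fun q => coeff q n) h'
        simp only [coeff_derivative, coeff_zero] at h1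
        have hu : IsUnit ((n : A) + 1) := by
          rw [← Nat.cast_add_one]
          exact (CharP.isUnit_natCast_iff (R := A) hp.out).2 (Nat.not_dvd_of_pos_of_lt n.succ_pos hn)
        exact hu.mul_left_eq_zero.1 h1
      · exact coeff_eq_zero_of_natDegree_lt (by omega)
  rw [hfC, mk_C, ev0_cst]

end Basic

section Shift

variable {A A' : Type u} [CommRing A] [CommRing A'] [CharP A' p]

/-- The substitution `x ↦ x + c`, along a map of coefficients. -/
def shift (φ : A →+* A') (c : A') (hc : c ^ p = 0) : P p A →+* P p A' :=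
  AdjoinRoot.lift ((cst p A').comp φ) (cst p A' c + xv p A') (by
    rw [eval₂_X_pow, pow_one, add_pow_char (R := P p A') (p := p), ← map_pow, hc, map_zero, xv_pow, add_zero])

theorem shift_x (φ : A →+* A') (c : A') (hc : c ^ p = 0) : shift p φ c hc (xv p A) = cst p A' c + xv p A' :=
  AdjoinRoot.lift_root _

theorem shift_cst (φ : A →+* A') (c : A') (hc : c ^ p = 0) (a : A) : shift p φ c hc (cst p A a) = cst p A' (φ a) :=
  AdjoinRoot.lift_of _

theorem ext_P {B : Type u} [CommRing B] {f g : P p A →+* B} (hC : ∀ a, f (cst p A a) = g (cst p A a))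
    (hx : f (xv p A) = g (xv p A)) : f = g := by
  refine RingHom.ext fun u => ?_
  obtain ⟨q, rfl⟩ := AlphaPn.mk_surjective p 1 A u
  induction q using Polynomial.induction_on' with
  | add a b ha hb => rw [map_add, map_add, map_add, ha, hb]
  | monomial n a =>
    rw [← C_mul_X_pow_eq_monomial, map_mul, map_pow, mk_C, AlphaPn.mk_X, map_mul, map_mul, map_pow, map_pow, hC, hx]

variable [CharP A p]

theorem D_shift (φ : A →+* A') (c : A') (hc : c ^ p = 0) (u : P p A) :
    D p A' (shift p φ c hc u) = shift p φ c hc (D p A u) := by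
  obtain ⟨q, rfl⟩ := AlphaPn.mk_surjective p 1 A u
  induction q using Polynomial.induction_on' with
  | add a b ha hb => rw [map_add, map_add, D_add, D_add, ha, hb, map_add]
  | monomial n a =>
    rw [← C_mul_X_pow_eq_monomial, map_mul, map_pow, mk_C, AlphaPn.mk_X]
    simp only [map_mul, map_pow, shift_cst, shift_x, D_mul, D_cst, D_pow, D_add, D_x, zero_mul, zero_add, mul_one,
      map_natCast]

theorem ev0_shift_zero (φ : A →+* A') (hc : (0 : A') ^ p = 0) (u : P p A) :
    ev0 p A' (shift p φ 0 hc u) = φ (ev0 p A u) := by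
  have h : (ev0 p A').comp (shift p φ 0 hc) = φ.comp (ev0 p A) :=
    ext_P p (fun a => by simp [shift_cst]) (by simp [shift_x])
  exact RingHom.congr_fun h u

theorem ev0_shift_x (u : P p A) :
    ev0 p (P p A) (shift p (cst p A) (xv p A) (xv_pow p A) u) = u := by
  have h : (ev0 p (P p A)).comp (shift p (cst p A) (xv p A) (xv_pow p A)) = RingHom.id _ :=
    ext_P p (fun a => by simp [shift_cst]) (by simp [shift_x])
  exact RingHom.congr_fun h u

end Shift

section Split

variable (R : Type u) [CommRing R] [CharP R p]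

theorem zero_pow_p {A : Type u} [CommRing A] : (0 : A) ^ p = 0 := zero_pow hp.out.ne_zero

/-- Substituting the second variable. -/
abbrev iy : P p R →+* P p (P p R) := shift p (cst p R) 0 (zero_pow_p p)

/-- Substituting the sum of the variables. -/
abbrev is : P p R →+* P p (P p R) := shift p (cst p R) (xv p R) (xv_pow p R)

theorem logDeriv_sum {ι : Type} (s : Finset ι) (f : ι → P p R)
    (h : ∀ i ∈ s, ∃ φ, ev0 p R φ = 1 ∧ D p R φ = f i * φ) :
    ∃ φ, ev0 p R φ = 1 ∧ D p R φ = (∑ i ∈ s, f i) * φ := by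
  classical
  induction s using Finset.induction with
  | empty => exact ⟨1, map_one _, by rw [D_one, Finset.sum_empty, zero_mul]⟩
  | insert a s ha ih =>
    obtain ⟨φ, h₁, h₂⟩ := h a (Finset.mem_insert_self a s)
    obtain ⟨ψ, h₃, h₄⟩ := ih fun i hi => h i (Finset.mem_insert_of_mem hi)
    refine ⟨φ * ψ, by rw [map_mul, h₁, h₃, one_mul], ?_⟩
    rw [D_mul, h₂, h₄, Finset.sum_insert ha]
    ring

/-- The truncated exponential. -/
def expT (inv : ℕ → R) (u : P p R) : P p R := ∑ i ∈ Finset.range p, cst p R (inv i) * u ^ i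

theorem D_expT {inv : ℕ → R} (hinv : ∀ i < p, (i.factorial : R) * inv i = 1) (u : P p R) :
    D p R (expT p R inv u) = D p R u * (expT p R inv u + u ^ (p - 1)) := by
  obtain ⟨q, hq⟩ : ∃ q, p = q + 1 := ⟨p - 1, (Nat.succ_pred_eq_of_pos hp.out.pos).symm⟩
  have hlast : inv q = -1 := by
    have h := hinv q (by omega)
    have hw : ((q.factorial : ℕ) : R) = -1 := by
      have h1 := congrArg (ZMod.castHom (dvd_refl p) R) (ZMod.wilsons_lemma p)
      rw [map_natCast, map_neg, map_one] at h1
      rwa [show p - 1 = q by omega] at h1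
    rw [hw, neg_one_mul, neg_eq_iff_eq_neg] at h
    exact h
  have hstep : ∀ i, i + 1 < p → ((i + 1 : ℕ) : R) * inv (i + 1) = inv i := fun i hi => by
    have h := hinv (i + 1) hi
    rw [Nat.factorial_succ, Nat.cast_mul] at h
    linear_combination inv i * h - ((i + 1 : ℕ) : R) * inv (i + 1) * hinv i (by omega)
  simp only [expT, D_sum, D_mul, D_cst, zero_mul, zero_add, D_pow]
  rw [show Finset.range p = Finset.range (q + 1) by rw [hq], show p - 1 = q by omega, Finset.sum_range_succ' (fun i => cst p R (inv i) * ((i : P p R) * u ^ (i - 1) * D p R u)),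
    Finset.sum_range_succ (fun i => cst p R (inv i) * u ^ i), Nat.cast_zero, zero_mul, zero_mul, mul_zero, add_zero,
    hlast, map_neg, map_one, neg_one_mul, add_assoc, neg_add_cancel, add_zero,
    Finset.mul_sum]
  refine Finset.sum_congr rfl fun i hi => ?_
  rw [← hstep i (by have := Finset.mem_range.1 hi; omega), map_mul, map_natCast, Nat.add_sub_cancel]
  ring

theorem exists_exp {inv : ℕ → R} (hinv : ∀ i < p, (i.factorial : R) * inv i = 1) (a : R) (k : ℕ) (hk : 1 ≤ k) :
    ∃ φ, ev0 p R φ = 1 ∧
      D p R φ = ((k : P p R) * cst p R a * xv p R ^ (k - 1) +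
        if k = 1 then cst p R (a ^ p) * xv p R ^ (p - 1) else 0) * φ := by
  let u := cst p R a * xv p R ^ k
  have hu : D p R u = (k : P p R) * cst p R a * xv p R ^ (k - 1) := by
    rw [D_mul, D_cst, zero_mul, zero_add, D_pow, D_x, mul_one]
    ring
  refine ⟨expT p R inv u, ?_, ?_⟩
  · have h0 := hinv 0 hp.out.pos
    rw [Nat.factorial_zero, Nat.cast_one, one_mul] at h0
    rw [expT, map_sum, Finset.sum_eq_single_of_mem 0 (Finset.mem_range.2 hp.out.pos) fun i _ hi => by
      rw [map_mul, map_pow, map_mul, map_pow, ev0_x, zero_pow (Nat.one_le_iff_ne_zero.1 hk), mul_zero,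
        zero_pow hi, mul_zero]]
    rw [pow_zero, mul_one, ev0_cst, h0]
  · rw [D_expT p R hinv, hu, mul_add, add_mul]
    congr 1
    split_ifs with h1
    · subst h1
      have hx : ∀ i, i ≠ 0 → xv p R ^ (p - 1) * u ^ i = 0 := fun i hi => by
        obtain ⟨j, rfl⟩ := Nat.exists_eq_succ_of_ne_zero hi
        have : xv p R ^ (p - 1) * xv p R = 0 := by
          rw [← pow_succ, Nat.sub_add_cancel hp.out.one_le, xv_pow]
        simp only [u, pow_one, pow_succ]
        linear_combination ((cst p R a * xv p R) ^ j * cst p R a) * this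
      have hE : xv p R ^ (p - 1) * expT p R inv u = xv p R ^ (p - 1) := by
        rw [expT, Finset.mul_sum, Finset.sum_eq_single_of_mem 0 (Finset.mem_range.2 hp.out.pos) fun i _ hi => by
          rw [mul_left_comm, hx i hi, mul_zero]]
        have h0 := hinv 0 hp.out.pos
        rw [Nat.factorial_zero, Nat.cast_one, one_mul] at h0
        rw [h0, pow_zero, map_one, mul_one, mul_one]
      rw [mul_assoc (cst p R (a ^ p)), hE]
      obtain ⟨q, hq⟩ : ∃ q, p = q + 1 := ⟨p - 1, (Nat.succ_pred_eq_of_pos hp.out.pos).symm⟩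
      simp only [u, pow_one, Nat.cast_one, one_mul, Nat.sub_self, pow_zero, mul_one, mul_pow, map_pow]
      rw [show p - 1 = q by omega, hq]
      ring
    · rw [zero_mul]
      have h2 : 2 ≤ k := by omega
      simp only [u, mul_pow, ← pow_mul]
      have hz : xv p R ^ (k - 1) * xv p R ^ (k * (p - 1)) = 0 := by
        rw [← pow_add]
        refine pow_eq_zero_of_le ?_ (xv_pow p R)
        have := hp.out.two_le
        have : k * (p - 1) + k = k * p := by
          rw [← Nat.mul_succ, Nat.succ_eq_add_one, Nat.sub_add_cancel hp.out.one_le]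
        have : 2 * p ≤ k * p := Nat.mul_le_mul_right p h2
        omega
      linear_combination ((k : P p R) * cst p R a * cst p R a ^ (p - 1)) * hz

theorem exists_logDeriv (hF : Function.Surjective (frobenius R p)) (g : P p R) :
    ∃ (c : R) (φ : P p R), ev0 p R φ = 1 ∧ D p R φ = (g + cst p R c) * φ := by
  haveI : Nontrivial R := CharP.nontrivial_of_char_ne_one (v := p) hp.out.ne_one
  have hfac : ∀ i, i < p → IsUnit (i.factorial : R) := fun i hi =>
    (CharP.isUnit_natCast_iff (R := R) hp.out).2 fun h => absurd ((Nat.Prime.dvd_factorial (Fact.out : p.Prime)).1 h) (by omega)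
  let inv : ℕ → R := fun i => Ring.inverse (i.factorial : R)
  have hinv : ∀ i < p, (i.factorial : R) * inv i = 1 := fun i hi => Ring.mul_inverse_cancel _ (hfac i hi)
  obtain ⟨gc, rfl⟩ := exists_sum p R g
  obtain ⟨a, ha⟩ := hF (gc (p - 1))
  rw [frobenius_def] at ha
  let term : ℕ → P p R := fun i =>
    if i = 0 then cst p R a + cst p R (a ^ p) * xv p R ^ (p - 1)
    else cst p R (gc i) * xv p R ^ i
  obtain ⟨φ, h₁, h₂⟩ := logDeriv_sum p R (Finset.range (p - 1)) term fun i hi => by
    rw [Finset.mem_range] at hi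
    simp only [term]
    split_ifs with h0
    · obtain ⟨φ, h₁, h₂⟩ := exists_exp p R hinv a 1 le_rfl
      refine ⟨φ, h₁, ?_⟩
      rw [h₂, if_pos rfl, Nat.cast_one, one_mul, Nat.sub_self, pow_zero, mul_one]
    · have hu : IsUnit ((i + 1 : ℕ) : R) :=
        (CharP.isUnit_natCast_iff (R := R) hp.out).2 (Nat.not_dvd_of_pos_of_lt i.succ_pos (by omega))
      obtain ⟨φ, h₁, h₂⟩ := exists_exp p R hinv (Ring.inverse ((i + 1 : ℕ) : R) * gc i) (i + 1) (by omega)
      refine ⟨φ, h₁, ?_⟩
      rw [h₂, if_neg (by omega), add_zero, Nat.add_sub_cancel, ← map_natCast (cst p R), ← map_mul,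
        ← mul_assoc ((i + 1 : ℕ) : R), Ring.mul_inverse_cancel _ hu, one_mul]
  refine ⟨a - gc 0, φ, h₁, ?_⟩
  rw [h₂]
  congr 1
  obtain ⟨q, hq⟩ : ∃ q, p = q + 2 := ⟨p - 2, by have := hp.out.two_le; omega⟩
  rw [show p - 1 = q + 1 by omega] at ha ⊢
  have hR : Finset.range p = Finset.range (q + 1 + 1) := by rw [hq]
  rw [hR, Finset.sum_range_succ _ (q + 1), Finset.sum_range_succ', Finset.sum_range_succ']
  simp only [term, if_pos, Nat.succ_ne_zero, ↓reduceIte, pow_zero, mul_one, map_sub, ha]
  rw [show p - 1 = q + 1 by omega]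
  ring

/-- Normalised cocycles on truncated polynomials are coboundaries. -/
theorem exists_split (hF : Function.Surjective (frobenius R p)) (h : P p (P p R))
    (hnorm : ev0 p (P p R) h = 1)
    (hcoc : shift p (iy p R) 0 (zero_pow_p p) h *
        shift p (cst p (P p R)) (xv p (P p R)) (xv_pow p (P p R)) h =
      shift p (is p R) 0 (zero_pow_p p) h * cst p (P p (P p R)) h) :
    ∃ φ : P p R, IsUnit φ ∧ is p R φ = cst p (P p R) φ * iy p R φ * h := by
  let g := ev0 p (P p R) (D p (P p R) h)
  -- differentiate in the last variable at zero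
  have hD : D p (P p R) h = (is p R g - iy p R g) * h := by
    have e := congrArg (fun u => ev0 p (P p (P p R)) (D p (P p (P p R)) u)) hcoc
    simp only [D_mul, D_shift, D_cst, map_add, map_mul, map_zero, ev0_shift_zero, ev0_shift_x, ev0_cst, mul_zero,
      add_zero, hnorm, map_one, one_mul] at e
    change iy p R g * h + D p (P p R) h = is p R g * h at e
    linear_combination e
  obtain ⟨c, φ, hφ1, hφ⟩ := exists_logDeriv p R hF g
  have hφu : IsUnit φ := by
    haveI : Nontrivial R := CharP.nontrivial_of_char_ne_one (v := p) hp.out.ne_one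
    obtain ⟨cs, hcs⟩ := exists_sum p R φ
    have hn : IsNilpotent (φ - 1) := by
      have h0 : cs 0 = 1 := by
        rw [← hφ1, hcs, map_sum, Finset.sum_eq_single_of_mem 0 (Finset.mem_range.2 hp.out.pos) fun i _ hi => by
          rw [map_mul, map_pow, ev0_x, zero_pow hi, mul_zero]]
        rw [pow_zero, mul_one, ev0_cst]
      rw [hcs, ← Finset.add_sum_erase _ _ (Finset.mem_range.2 hp.out.pos), h0, map_one, pow_zero, mul_one,
        add_sub_cancel_left]
      refine Commute.isNilpotent_sum (fun i hi => ?_) fun _ _ _ _ => Commute.all _ _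
      obtain ⟨hi, -⟩ := Finset.mem_erase.1 hi
      exact (Commute.all _ _).isNilpotent_mul_left (IsNilpotent.pow_of_pos (show IsNilpotent (xv p R) from ⟨p, xv_pow p R⟩) hi)
    simpa using hn.isUnit_add_one
  refine ⟨φ, hφu, ?_⟩
  obtain ⟨w, hw⟩ := (hφu.map (is p R)).exists_left_inv
  let k := cst p (P p R) φ * iy p R φ * h * w
  have hs : D p (P p R) (is p R φ) = is p R (g + cst p R c) * is p R φ := by rw [D_shift, hφ, map_mul]
  have hy : D p (P p R) (iy p R φ) = iy p R (g + cst p R c) * iy p R φ := by rw [D_shift, hφ, map_mul]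
  have hw' : D p (P p R) w = -(w * is p R (g + cst p R c)) := by
    have e := congrArg (D p (P p R)) hw
    rw [D_mul, D_one, hs] at e
    linear_combination w * e - (D p (P p R) w + is p R (g + cst p R c) * w) * hw
  have hk : D p (P p R) k = 0 := by
    simp only [k, D_mul, D_cst, hy, hD, hw', map_add, shift_cst]
    ring
  have hk1 : ev0 p (P p R) k = 1 := by
    have e := congrArg (ev0 p (P p R)) hw
    rw [map_mul, map_one, ev0_shift_x] at e
    simp only [k, map_mul, ev0_cst, ev0_shift_zero, hφ1, map_one, hnorm, mul_one]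
    linear_combination e
  have := eq_cst_of_D_eq_zero p (P p R) k hk
  rw [hk1, map_one] at this
  calc is p R φ = k * is p R φ := by rw [this, one_mul]
    _ = _ := by simp only [k]; linear_combination (cst p (P p R) φ * iy p R φ * h) * hw

end Split

end Groth.Agent.GaDualLib.AlphaCoc
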