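import Groth.Agent.GaDualLib.UnitH1
import Groth.Agent.SepLib.MDense
import Groth.Agent.InvExt.Main

/-!
# Cocycles with trivial `p`-th power on affine schemes whose functions have enough `p`-th roots
-/

set_option autoImplicit false
set_option backward.isDefEq.respectTransparency false
set_option backward.isDefEq.respectTransparency.types false
set_option linter.style.haveILetI false

universe u

open CategoryTheory CategoryTheory.Limits AlgebraicGeometry TopologicalSpace Opposite
open Groth.Agent.ParaFLib Groth.Agent.QCohLib Groth.Agent.InvDescLib Groth.Agent.CohBase Groth.Agent.SepLib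

noncomputable section

namespace Groth.Agent.GaDualLib

/-- Cocycles whose `p`-th power is a coboundary are coboundaries. -/
def CocTriv (p : ℕ) (X : Scheme.{u}) : Prop :=
  ∀ (ι : Type u) (D : ι → X.Opens) (η : ∀ i j, (Γ(X, D i ⊓ D j))ˣ), iSup D = ⊤ → ParaFLib.IsCocycle D η →
    ∀ (e : ∀ i, Γ(X, D i)), (∀ i, IsUnit (e i)) →
      (∀ i j, X.presheaf.map (homOfLE inf_le_left).op (e i) =
        (η i j : Γ(X, D i ⊓ D j)) ^ p * X.presheaf.map (homOfLE inf_le_right).op (e j)) →
      ∃ b : ∀ i, Γ(X, D i), (∀ i, IsUnit (b i)) ∧ ∀ i j, X.presheaf.map (homOfLE inf_le_left).op (b i) =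
        (η i j : Γ(X, D i ⊓ D j)) * X.presheaf.map (homOfLE inf_le_right).op (b j)

/-- Solutions of a logarithmic differential equation are `p`-th powers modulo nilpotents. -/
def RootProp (p : ℕ) (B : Type u) [CommRing B] (d : B → B) : Prop :=
  ∀ (ι : Type u) (a s : ι → B) (f : B), Ideal.span (Set.range s) = ⊤ → (∀ i, d (a i) = f * a i) →
    (∀ i, ∃ (n : ℕ) (c : B), a i * c = s i ^ n) → ∀ i, ∃ b, IsNilpotent (a i - b ^ p)

variable {X : Scheme.{u}}

/-- The value of a function at a point. -/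
def valAt {U : X.Opens} (y : X) (hy : y ∈ U) : Γ(X, U) →+* X.residueField y :=
  (X.presheaf.germ U y hy ≫ X.residue y).hom

theorem valAt_res {U V : X.Opens} (h : V ≤ U) (y : X) (hy : y ∈ V) (z : Γ(X, U)) :
    valAt y hy (X.presheaf.map (homOfLE h).op z) = valAt y (h hy) z :=
  congrArg (X.residue y) (X.presheaf.germ_res_apply (homOfLE h) y hy z)

theorem isUnit_of_valAt_ne_zero {U : X.Opens} {z : Γ(X, U)} (h : ∀ y (hy : y ∈ U), valAt y hy z ≠ 0) : IsUnit z := by
  refine RingedSpace.isUnit_of_isUnit_germ _ _ z fun y hy => ?_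
  by_contra hn
  exact h y hy ((IsLocalRing.residue_eq_zero_iff _).2 hn)

theorem valAt_basicOpen {U : X.Opens} {s : Γ(X, U)} {y : X} (hy : y ∈ U) (h : y ∉ X.basicOpen s) : valAt y hy s = 0 :=
  (IsLocalRing.residue_eq_zero_iff _).2 fun hu => h ((X.toRingedSpace.mem_basicOpen s y hy).2 hu)

theorem eq_of_pow_eq_one {K : Type u} [Field K] {p : ℕ} (hp : p.Prime) (hK : (p : K) = 0) {x : K} (h : x ^ p = 1) :
    x = 1 := by
  haveI : Fact p.Prime := ⟨hp⟩
  haveI : CharP K p := (CharP.charP_iff_prime_eq_zero hp).2 hK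
  refine frobenius_inj K p ?_
  simp [frobenius_def, h]

variable [IsAffine X]

theorem cocTriv_of_rootProp (p : ℕ) (hp : p.Prime) (hp0 : (p : Γ(X, ⊤)) = 0) (d : Γ(X, ⊤) → Γ(X, ⊤))
    (hd : ∀ x y, d (x * y) = d x * y + x * d y) (hr : RootProp p Γ(X, ⊤) d) : CocTriv p X := by
  classical
  intro ι D η hD hη e he hee
  have hpow : ∀ (z x : Γ(X, ⊤)), d (x * z ^ p) = d x * z ^ p := fun z x => by
    have h0 : ∀ n : ℕ, d (z ^ (n + 1)) = ((n + 1 : ℕ) : Γ(X, ⊤)) * (z ^ n * d z) := fun n => by
      induction n with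
      | zero => simp
      | succ n ih => rw [pow_succ z (n + 1), hd, ih]; push_cast; ring
    obtain ⟨q, hq⟩ := Nat.exists_eq_succ_of_ne_zero hp.ne_zero
    have hz : d (z ^ p) = 0 := by rw [hq, h0, ← Nat.succ_eq_add_one, ← hq, hp0, zero_mul]
    rw [hd, hz, mul_zero, add_zero]
  obtain ⟨M, σ, hM, hσ, hστ⟩ := exists_invertible_of_cocycle D η hD hη
  haveI : Coh.IsQCoh M := InvExt.isQCoh_of_isInvertible hM
  -- basic opens inside the given opens
  let κ : Type u := Σ i : ι, {s : Γ(X, ⊤) // X.basicOpen s ≤ D i}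
  let O : κ → X.Opens := fun k => X.basicOpen k.2.1
  have hle : ∀ k : κ, O k ≤ D k.1 := fun k => k.2.2
  have hcov : iSup O = ⊤ := top_le_iff.1 fun y _ => by
    obtain ⟨i, hi⟩ := Opens.mem_iSup.1 (hD.ge (Opens.mem_top y))
    obtain ⟨s, hs, hys⟩ := (isAffineOpen_top X).exists_basicOpen_le ⟨y, hi⟩ (Opens.mem_top y)
    exact Opens.mem_iSup.2 ⟨⟨i, s, hs⟩, hys⟩
  have hspan : Ideal.span (Set.range fun k : κ => k.2.1) = ⊤ := by
    rw [← (isAffineOpen_top X).iSup_basicOpen_eq_self_iff]
    refine le_antisymm le_top (hcov.ge.trans (iSup_le fun k => le_iSup_of_le ⟨k.2.1, k, rfl⟩ le_rfl))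
  let r : ∀ k : κ, Γ(X, ⊤) →+* Γ(X, O k) := fun k => (X.presheaf.map (homOfLE le_top).op).hom
  have hsu : ∀ k : κ, IsUnit (r k k.2.1) := fun k => X.toRingedSpace.isUnit_res_basicOpen _
  let ek : ∀ k : κ, Γ(X, O k) := fun k => X.presheaf.map (homOfLE (hle k)).op (e k.1)
  have hek : ∀ k, IsUnit (ek k) := fun k => (he k.1).map _
  -- numerators
  have hnum : ∀ k : κ, ∃ (a : Γ(X, ⊤)) (m : ℕ), r k a = ek k * r k k.2.1 ^ (p * m) := fun k => by
    haveI := (isAffineOpen_top X).isLocalization_basicOpen k.2.1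
    obtain ⟨⟨a, ⟨_, n, rfl⟩⟩, ha⟩ := IsLocalization.surj (Submonoid.powers k.2.1) (ek k)
    change ek k * r k (k.2.1 ^ n) = r k a at ha
    refine ⟨a * k.2.1 ^ ((p - 1) * n), n, ?_⟩
    rw [map_mul, ← ha, map_pow, map_pow, _root_.mul_assoc, ← pow_add]
    congr 2
    have := hp.one_le
    nlinarith [Nat.sub_add_cancel hp.one_le]
  choose a m ha using hnum
  have hau : ∀ k, IsUnit (r k (a k)) := fun k => by rw [ha]; exact (hek k).mul ((hsu k).pow _)
  choose a' ha' using fun k => isUnit_iff_exists_inv.1 (hau k)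
  -- the logarithmic derivatives agree
  let φ : ∀ k, Γ(X, O k) := fun k => r k (d (a k)) * a' k
  have hφa : ∀ k, φ k * r k (a k) = r k (d (a k)) := fun k => by
    simp only [φ]
    rw [_root_.mul_assoc, _root_.mul_comm (a' k), ha', _root_.mul_one]
  have hagree : ∀ k l : κ, X.presheaf.map (homOfLE (inf_le_left : O k ⊓ O l ≤ O k)).op (φ k) =
      X.presheaf.map (homOfLE (inf_le_right : O k ⊓ O l ≤ O l)).op (φ l) := fun k l => by
    let w : Γ(X, ⊤) := k.2.1 * l.2.1
    have hw : X.basicOpen w = O k ⊓ O l := X.basicOpen_mul _ _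
    let U := X.basicOpen w
    let rU : Γ(X, ⊤) →+* Γ(X, U) := (X.presheaf.map (homOfLE le_top).op).hom
    have hk : U ≤ O k := hw.le.trans inf_le_left
    have hl : U ≤ O l := hw.le.trans inf_le_right
    have hrk : ∀ z, X.presheaf.map (homOfLE hk).op (r k z) = rU z := fun z => res_res_ring _ _ z
    have hrl : ∀ z, X.presheaf.map (homOfLE hl).op (r l z) = rU z := fun z => res_res_ring _ _ z
    haveI := (isAffineOpen_top X).isLocalization_basicOpen w
    let c : Γ(X, U) := X.presheaf.map (homOfLE (hw.le.trans (inf_le_inf (hle k) (hle l)))).op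
      (η k.1 l.1 : Γ(X, D k.1 ⊓ D l.1))
    obtain ⟨⟨γ, ⟨_, q, rfl⟩⟩, hγ⟩ := IsLocalization.surj (Submonoid.powers w) c
    change c * rU (w ^ q) = rU γ at hγ
    have hkl := congrArg (X.presheaf.map (homOfLE (hw.le.trans (inf_le_inf (hle k) (hle l)))).op) (hee k.1 l.1)
    rw [map_mul, map_pow, res_res_ring, res_res_ring] at hkl
    have hk' := congrArg (X.presheaf.map (homOfLE hk).op) (ha k)
    have hl' := congrArg (X.presheaf.map (homOfLE hl).op) (ha l)
    rw [map_mul, map_pow, hrk, hrk, res_res_ring] at hk'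
    rw [map_mul, map_pow, hrl, hrl, res_res_ring] at hl'
    have hU : rU (a k * (l.2.1 ^ m l * w ^ q) ^ p) = rU (a l * (γ * k.2.1 ^ m k) ^ p) := by
      simp only [map_mul, map_pow, mul_pow]
      rw [hk', hl', hkl, ← hγ, map_pow, mul_pow, ← pow_mul, ← pow_mul, ← pow_mul, map_mul]
      ring
    obtain ⟨⟨_, t, rfl⟩, ht⟩ := IsLocalization.exists_of_eq (M := Submonoid.powers w) hU
    have ht' : a k * (l.2.1 ^ m l * w ^ q * w ^ t) ^ p = a l * (γ * k.2.1 ^ m k * w ^ t) ^ p := by
      have h1 := congrArg (fun z => z * (w ^ t) ^ (p - 1)) ht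
      have e : (w ^ t) ^ p = w ^ t * (w ^ t) ^ (p - 1) := by
        rw [← pow_succ', Nat.sub_add_cancel hp.one_le]
      rw [mul_pow _ (w ^ t), mul_pow _ (w ^ t), e]
      calc _ = w ^ t * (a k * (l.2.1 ^ m l * w ^ q) ^ p) * (w ^ t) ^ (p - 1) := by ring
        _ = w ^ t * (a l * (γ * k.2.1 ^ m k) ^ p) * (w ^ t) ^ (p - 1) := h1
        _ = _ := by ring
    have hdd := congrArg d ht'
    rw [hpow, hpow] at hdd
    have key : X.presheaf.map (homOfLE hk).op (φ k) = X.presheaf.map (homOfLE hl).op (φ l) := by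
      have hZ : IsUnit (rU (l.2.1 ^ m l * w ^ q * w ^ t) ^ p) := by
        have h1 : IsUnit (rU w) := X.toRingedSpace.isUnit_res_basicOpen w
        have h2 : IsUnit (rU l.2.1) := (hrl l.2.1) ▸ (hsu l).map _
        rw [map_mul, map_mul, map_pow, map_pow, map_pow]
        exact (((h2.pow _).mul (h1.pow _)).mul (h1.pow _)).pow _
      have huk : IsUnit (rU (a k)) := (hrk (a k)) ▸ (hau k).map _
      have e1 := congrArg (X.presheaf.map (homOfLE hk).op) (hφa k)
      have e2 := congrArg (X.presheaf.map (homOfLE hl).op) (hφa l)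
      rw [map_mul, hrk, hrk] at e1
      rw [map_mul, hrl, hrl] at e2
      have e3 := congrArg rU hdd
      have e4 := congrArg rU ht'
      rw [map_mul, map_mul, map_pow, map_pow] at e3 e4
      refine (huk.mul hZ).mul_right_cancel ?_
      rw [← _root_.mul_assoc, e1, e3, ← e2, e4]
      ring
    have hw' : O k ⊓ O l ≤ U := hw.ge
    have := congrArg (X.presheaf.map (homOfLE hw').op) key
    rwa [res_res_ring, res_res_ring] at this
  obtain ⟨fv, hfv, -⟩ := X.sheaf.existsUnique_gluing' O ⊤ (fun k => homOfLE le_top) hcov.ge φ hagree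
  obtain ⟨f, hf⟩ : ∃ f : Γ(X, ⊤), ∀ k, r k f = φ k := ⟨fv, hfv⟩
  -- better numerators
  have hnum' : ∀ k : κ, ∃ (a : Γ(X, ⊤)) (m : ℕ), r k a = ek k * r k k.2.1 ^ (p * m) ∧ d a = f * a := fun k => by
    haveI := (isAffineOpen_top X).isLocalization_basicOpen k.2.1
    have h0 : r k (f * a k) = r k (d (a k)) := by rw [map_mul, hf, hφa]
    obtain ⟨⟨_, N, rfl⟩, hN⟩ := IsLocalization.exists_of_eq (M := Submonoid.powers k.2.1) h0
    refine ⟨a k * (k.2.1 ^ N) ^ p, m k + N, ?_, ?_⟩
    · rw [map_mul, ha, map_pow, map_pow, _root_.mul_assoc, ← pow_mul, ← pow_add]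
      congr 2
      ring
    · rw [hpow, ← Nat.sub_add_cancel hp.one_le, pow_succ, ← Nat.sub_add_cancel hp.one_le]
      calc _ = (k.2.1 ^ N * d (a k)) * (k.2.1 ^ N) ^ (p - 1) := by
            simp only [add_tsub_cancel_right]; ring
        _ = (k.2.1 ^ N * (f * a k)) * (k.2.1 ^ N) ^ (p - 1) := by rw [hN]
        _ = _ := by simp only [add_tsub_cancel_right]; ring
  choose A N hA hdA using hnum'
  have hAu : ∀ k, IsUnit (r k (A k)) := fun k => by rw [hA]; exact (hek k).mul ((hsu k).pow _)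
  have hAs : ∀ k : κ, ∃ (n : ℕ) (c : Γ(X, ⊤)), A k * c = k.2.1 ^ n := fun k => by
    haveI := (isAffineOpen_top X).isLocalization_basicOpen k.2.1
    obtain ⟨v, hv⟩ := isUnit_iff_exists_inv.1 (hAu k)
    obtain ⟨⟨c, ⟨_, n, rfl⟩⟩, hc⟩ := IsLocalization.surj (Submonoid.powers k.2.1) v
    change v * r k (k.2.1 ^ n) = r k c at hc
    have h0 : r k (A k * c) = r k (k.2.1 ^ n) := by rw [map_mul, ← hc, ← _root_.mul_assoc, hv, _root_.one_mul]
    obtain ⟨⟨_, t, rfl⟩, ht⟩ := IsLocalization.exists_of_eq (M := Submonoid.powers k.2.1) h0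
    exact ⟨t + n, k.2.1 ^ t * c, by rw [pow_add]; linear_combination ht⟩
  choose B hB using hr κ A (fun k => k.2.1) f hspan hdA hAs
  -- local roots, up to values at points
  choose S' hS' using fun k : κ => isUnit_iff_exists_inv.1 ((hsu k).pow (N k))
  let β : ∀ k, Γ(X, O k) := fun k => r k (B k) * S' k
  have hβ : ∀ (k : κ) (y : X) (hy : y ∈ O k), valAt y hy (β k) ^ p = valAt y hy (ek k) := fun k y hy => by
    have h1 : valAt y hy (r k (A k)) = valAt y hy (r k (B k)) ^ p := by
      have h := ((hB k).map (r k)).map (valAt y hy)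
      have := h.eq_zero
      rw [map_sub, map_sub, map_pow, map_pow, sub_eq_zero] at this
      exact this
    have h2 := congrArg (valAt y hy) (hS' k)
    rw [hA, map_mul, map_pow] at h1
    rw [map_mul, map_pow, map_one] at h2
    simp only [β, map_mul, mul_pow, ← h1]
    calc valAt y hy (ek k) * valAt y hy (r k k.2.1) ^ (p * N k) * valAt y hy (S' k) ^ p =
        valAt y hy (ek k) * (valAt y hy (r k k.2.1) ^ N k * valAt y hy (S' k)) ^ p := by ring
      _ = _ := by rw [h2, one_pow, _root_.mul_one]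
  have hβu : ∀ k, IsUnit (β k) := fun k => isUnit_of_valAt_ne_zero fun y hy h => by
    have := hβ k y hy
    rw [h, zero_pow hp.ne_zero] at this
    exact ((hek k).map (valAt y hy)).ne_zero this.symm
  choose β' hβ' using fun k => isUnit_iff_exists_inv.1 (hβu k)
  let τ : ∀ k, Γ(M, O k) := fun k => β' k • M.presheaf.map (homOfLE (hle k)).op (σ k.1)
  have hτ : ∀ k, Gen (O k) (τ k) := fun k =>
    ((hσ k.1).res (hle k)).smul (.of_mul_eq_one (β k) ((_root_.mul_comm _ _).trans (hβ' k)))
  -- extensions of multiples of the local bases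
  have hext : ∀ k : κ, ∃ (n : ℕ) (x : Γ(M, ⊤)),
      M.presheaf.map (homOfLE le_top).op x = (r k k.2.1) ^ n • τ k := fun k => by
    obtain ⟨n, x, hx⟩ := (locAt M (isAffineOpen_top X)).extend k.2.1 (τ k)
    rw [sc_apply, map_pow] at hx
    exact ⟨n, x, hx⟩
  choose n x hx using hext
  have h1 : (1 : Γ(X, ⊤)) ∈ Ideal.span (Set.range fun k : κ => k.2.1 ^ (n k + 1)) := by
    suffices h : Ideal.span (Set.range fun k : κ => k.2.1 ^ (n k + 1)) = ⊤ by rw [h]; trivial
    by_contra hne
    obtain ⟨P, hP, hle'⟩ := Ideal.exists_le_maximal _ hne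
    refine hP.ne_top (top_le_iff.1 (hspan.ge.trans (Ideal.span_le.2 ?_)))
    rintro _ ⟨k, rfl⟩
    exact hP.isPrime.mem_of_pow_mem _ (hle' (Ideal.subset_span ⟨k, rfl⟩))
  obtain ⟨z, hz⟩ := Finsupp.mem_span_range_iff_exists_finsupp.1 h1
  let G : Γ(M, ⊤) := ∑ k ∈ z.support, (z k * k.2.1) • x k
  have hG : ∀ l, Gen (O l) (M.presheaf.map (homOfLE (le_top : O l ≤ ⊤)).op G) := fun l => by
    choose ρ hρ using fun k => ((hτ l) (O l) le_rfl).2 (M.presheaf.map (homOfLE (le_top : O l ≤ ⊤)).op (x k))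
    simp only [res_self' le_rfl] at hρ
    have e : M.presheaf.map (homOfLE (le_top : O l ≤ ⊤)).op G = (∑ k ∈ z.support, r l (z k * k.2.1) * ρ k) • τ l := by
      simp only [G, map_sum, Finset.sum_smul]
      refine Finset.sum_congr rfl fun k _ => ?_
      rw [Scheme.Modules.map_smul, ← hρ k, ← mul_smul]
    rw [e]
    refine (hτ l).smul (isUnit_of_valAt_ne_zero fun y hy => ?_)
    have hy1 : valAt y hy (∑ k ∈ z.support, r l (z k * k.2.1) * ρ k) = 1 := by
      have hterm : ∀ k ∈ z.support, valAt y hy (r l (z k * k.2.1) * ρ k) =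
          valAt (U := ⊤) y trivial (z k * k.2.1 ^ (n k + 1)) := fun k _ => by
        rw [map_mul, show valAt y hy (r l (z k * k.2.1)) = valAt (U := ⊤) y trivial (z k * k.2.1) from valAt_res _ _ _ _,
          map_mul, map_mul, map_pow, pow_succ]
        by_cases hk : y ∈ O k
        · suffices h : valAt y hy (ρ k) = valAt (U := ⊤) y trivial k.2.1 ^ n k by rw [h]; ring
          let V := O k ⊓ O l
          let cV : Γ(X, V) := X.presheaf.map (homOfLE (inf_le_inf (hle k) (hle l))).op (η k.1 l.1 : Γ(X, D k.1 ⊓ D l.1))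
          have hV := congrArg (M.presheaf.map (homOfLE (inf_le_inf (hle k) (hle l))).op) (hστ k.1 l.1)
          rw [Scheme.Modules.map_smul, ParaFLib.res_res, ParaFLib.res_res] at hV
          let βk : Γ(X, V) := X.presheaf.map (homOfLE (inf_le_left : V ≤ O k)).op (β' k)
          let βl : Γ(X, V) := X.presheaf.map (homOfLE (inf_le_right : V ≤ O l)).op (β' l)
          have hl' := congrArg (M.presheaf.map (homOfLE (inf_le_right : V ≤ O l)).op) (hρ k)
          have hk' := congrArg (M.presheaf.map (homOfLE (inf_le_left : V ≤ O k)).op) (hx k)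
          simp only [τ, Scheme.Modules.map_smul, ParaFLib.res_res, ← mul_smul] at hl' hk'
          rw [← hl'] at hk'
          rw [hV, ← mul_smul] at hk'
          have h2 := congrArg (valAt (U := O k ⊓ O l) y ⟨hk, hy⟩)
            (gen_inj ((hσ l.1).res ((inf_le_right : V ≤ O l).trans (hle l))) hk')
          simp only [map_mul, map_pow, valAt_res] at h2
          have h3 : valAt y hk (β' k) * valAt (U := D k.1 ⊓ D l.1) y ⟨hle k hk, hle l hy⟩ (η k.1 l.1) =
              valAt y hy (β' l) := by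
            have b1 := hβ k y hk
            have b2 := hβ l y hy
            have b3 := congrArg (valAt y hk) (hβ' k)
            have b4 := congrArg (valAt y hy) (hβ' l)
            have b5 := congrArg (valAt (U := D k.1 ⊓ D l.1) y ⟨hle k hk, hle l hy⟩) (hee k.1 l.1)
            rw [map_mul, map_pow, valAt_res, valAt_res] at b5
            rw [map_mul, map_one] at b3 b4
            simp only [ek] at b1 b2
            rw [valAt_res] at b1 b2
            have hp1 : (valAt y hk (β' k) * valAt (U := D k.1 ⊓ D l.1) y ⟨hle k hk, hle l hy⟩ (η k.1 l.1) *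
                valAt y hy (β l)) ^ p = 1 := by
              rw [mul_pow, mul_pow, b2, _root_.mul_assoc, ← b5, ← b1, ← mul_pow, _root_.mul_comm, b3, one_pow]
            have hK : (p : X.residueField y) = 0 := by
              rw [← map_natCast (valAt (U := ⊤) y trivial), hp0, map_zero]
            have h4 := eq_of_pow_eq_one hp hK hp1
            linear_combination valAt y hy (β' l) * h4 -
              (valAt y hk (β' k) * valAt (U := D k.1 ⊓ D l.1) y ⟨hle k hk, hle l hy⟩ (η k.1 l.1)) * b4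
          refine mul_right_cancel₀ ((IsUnit.of_mul_eq_one (β l) ((_root_.mul_comm _ _).trans (hβ' l))).map (valAt y hy)).ne_zero ?_
          rw [h2, _root_.mul_assoc, h3]
          congr 1
          exact congrArg (· ^ n k) (valAt_res _ _ _ _)
        · rw [valAt_basicOpen (U := ⊤) trivial hk]
          ring
      rw [map_sum, Finset.sum_congr rfl hterm, ← map_sum]
      have : (∑ k ∈ z.support, z k * k.2.1 ^ (n k + 1)) = 1 := hz
      rw [this, map_one]
    rw [hy1]
    exact one_ne_zero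
  -- the global basis gives the coboundary
  have hGi : ∀ i, Gen (D i) (M.presheaf.map (homOfLE (le_top : D i ≤ ⊤)).op G) := fun i =>
    gen_of_cover (fun k : κ => O k ⊓ D i) (fun k => inf_le_right)
      (fun y hy => by
        obtain ⟨k, hk⟩ := Opens.mem_iSup.1 (hcov.ge (Opens.mem_top y))
        exact Opens.mem_iSup.2 ⟨k, hk, hy⟩)
      fun k => by
        rw [ParaFLib.res_res, ← ParaFLib.res_res (le_top : O k ≤ ⊤) inf_le_left]
        exact (hG k).res _
  choose b hbu hb using fun i => (hσ i).exists_unit (hGi i)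
  refine ⟨b, hbu, fun i j => ?_⟩
  refine gen_inj ((hGi i).res (inf_le_left : D i ⊓ D j ≤ D i)) ?_
  have e1 := congrArg (M.presheaf.map (homOfLE (inf_le_left : D i ⊓ D j ≤ D i)).op) (hb i)
  have e2 := congrArg (M.presheaf.map (homOfLE (inf_le_right : D i ⊓ D j ≤ D j)).op) (hb j)
  rw [Scheme.Modules.map_smul, ParaFLib.res_res] at e1 e2
  rw [ParaFLib.res_res, e1, hστ, mul_smul, e2]

end Groth.Agent.GaDualLib
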