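import Groth.Agent.GaDualLib.Points
import Groth.Agent.GaPoints.Basic
import Groth.Agent.AdeqShLib.AbSurj

/-!
# Higher fppf cohomology of towers of additive groups on affine schemes vanishes
-/

set_option autoImplicit false
set_option backward.isDefEq.respectTransparency false
set_option backward.isDefEq.respectTransparency.types false
set_option linter.style.haveILetI false
set_option maxHeartbeats 800000

universe u

open CategoryTheory CategoryTheory.Limits AlgebraicGeometry Opposite MonObj TensorProduct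
open CategoryTheory.Abelian Groth.Agent.AdeqShLib Groth.Agent.AdeqLib

noncomputable section

namespace Groth.Agent.GaDualLib

variable {S : Scheme.{u}}

/-- The element of a fibre power of algebras given by a section of the additive group. -/
def cqVal (R : CommRingCat.{u}) (a : Spec R ⟶ S) (B : Type u) [CommRing B] [Algebra R B] (k : ℕ) :
    ((abBase R a (gaSh S)).obj (op (qOb R B k)) : Type (u + 1)) →+ Cq R B k :=
  AddMonoidHom.mk' (fun x => (Scheme.ΓSpecIso (Cq R B k)).hom
      (Red.gaFn (X := (Over.map a).obj (qOb R B k)) x.down.toMul)) fun x y => by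
    show (Scheme.ΓSpecIso (Cq R B k)).hom (Red.gaFn (X := (Over.map a).obj (qOb R B k)) (x.down.toMul * y.down.toMul)) = _
    rw [GaPoints.gaFn_mul, map_add]

theorem cqVal_bijective (R : CommRingCat.{u}) (a : Spec R ⟶ S) (B : Type u) [CommRing B] [Algebra R B] (k : ℕ) :
    Function.Bijective (cqVal R a B k) := by
  refine ⟨fun x y h => ?_, fun z => ?_⟩
  · refine ULift.ext _ _ (Additive.toMul.injective (GaPoints.gaFn_injective ?_))
    exact (Scheme.ΓSpecIso (Cq R B k)).commRingCatIsoToRingEquiv.injective h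
  · obtain ⟨t, ht⟩ := GaPoints.gaFn_surjective (X := (Over.map a).obj (qOb R B k)) ((Scheme.ΓSpecIso (Cq R B k)).inv z)
    refine ⟨ULift.up (Additive.ofMul t), ?_⟩
    show (Scheme.ΓSpecIso (Cq R B k)).hom (Red.gaFn t) = z
    rw [ht]
    exact (Scheme.ΓSpecIso (Cq R B k)).commRingCatIsoToRingEquiv.apply_symm_apply z

theorem cqVal_face (R : CommRingCat.{u}) (a : Spec R ⟶ S) (B : Type u) [CommRing B] [Algebra R B] (k : ℕ)
    (i : Fin (k + 1)) (x : (abBase R a (gaSh S)).obj (op (qOb R B k))) :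
    cqVal R a B (k + 1) ((abBase R a (gaSh S)).map (qFaceOb R B k i).op x) = qFace R B k i (cqVal R a B k x) := by
  show (Scheme.ΓSpecIso (Cq R B (k + 1))).hom
      (Red.gaFn ((Over.map a).map (qFaceOb R B k i) ≫ (x.down.toMul : (Over.map a).obj (qOb R B k) ⟶ Red.Ga S))) = _
  rw [GaPoints.gaFn_comp]
  exact ConcreteCategory.congr_hom (Scheme.ΓSpecIso_naturality (qMap R B i.succAbove)) _

theorem cechExact_ga (S : Scheme.{u}) : CechExact (gaSh S) := by
  intro R a B _ _ _ k x hx
  let ρ : ∀ l, Cq R B l ⊗[R] (R : Type u) →ₗ[R] Cq R B l := fun l => (TensorProduct.rid R (Cq R B l)).toLinearMap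
  have hρ : ∀ (l : ℕ) (z : Cq R B l ⊗[R] (R : Type u)),
      ρ (l + 1) (qD R B R l z) = ∑ i : Fin (l + 1), (-1 : ℤ) ^ (i : ℕ) • qFace R B l i (ρ l z) := fun l z => by
    simp only [qD, LinearMap.sum_apply, LinearMap.smul_apply, map_sum, map_zsmul]
    refine Finset.sum_congr rfl fun i _ => congrArg _ ?_
    induction z using TensorProduct.induction_on with
    | zero => simp
    | tmul c r => simp [ρ]
    | add z w hz hw => simp only [map_add, hz, hw]
  obtain ⟨z, hz⟩ := (TensorProduct.rid R (Cq R B (k + 2))).surjective (cqVal R a B (k + 2) x)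
  have h0 : qD R B R (k + 2) z = 0 := by
    refine (TensorProduct.rid R (Cq R B (k + 3))).injective ?_
    rw [map_zero]
    refine (hρ (k + 2) z).trans ?_
    have h := congrArg (cqVal R a B (k + 3)) hx
    rw [map_zero, map_sum] at h
    refine Eq.trans (Finset.sum_congr rfl fun i _ => ?_) h
    rw [map_zsmul, cqVal_face, ← hz]
    rfl
  obtain ⟨y, hy⟩ := qD_exact R B R (k + 1) z h0
  obtain ⟨w, hw⟩ := (cqVal_bijective R a B (k + 1)).2 (ρ (k + 1) y)
  refine ⟨w, (cqVal_bijective R a B (k + 2)).1 ?_⟩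
  rw [← hz, ← hy, map_sum]
  refine Eq.trans (Finset.sum_congr rfl fun i _ => ?_) (hρ (k + 1) y).symm
  rw [map_zsmul, cqVal_face, hw]

theorem subsingleton_H_ga {T : Scheme.{u}} [IsAffine T] (i : ℕ) (hi : 0 < i) :
    Subsingleton (BigSite.H Scheme.fppfPrecoverage T (gaSh T) i) := by
  obtain ⟨n, rfl⟩ := Nat.exists_eq_add_one_of_ne_zero hi.ne'
  exact subsingleton_H_of_cechExact n _ (cechExact_ga T)

theorem subsingleton_H_pts_tower {T : Scheme.{u}} [IsAffine T] (n : ℕ) (U : Fin (n + 1) → Over T)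
    [∀ j, GrpObj (U j)] [∀ j, IsCommMonObj (U j)]
    (incl : ∀ j : Fin n, U j.castSucc ⟶ U j.succ) (proj : ∀ j : Fin n, U j.succ ⟶ Red.Ga T)
    [∀ j, IsMonHom (incl j)] [∀ j, IsMonHom (proj j)] (w : ∀ j, incl j ≫ proj j = 1)
    (hex : ∀ j, (CGrpSh.seq Scheme.fppfPrecoverage (incl j) (proj j) (w j)).ShortExact)
    (h0 : IsZero (CGrpSh.pts Scheme.fppfPrecoverage (U 0))) (i : ℕ) (hi : 0 < i) :
    Subsingleton (BigSite.H Scheme.fppfPrecoverage T (CGrpSh.pts Scheme.fppfPrecoverage (U (Fin.last n))) i) := by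
  have h : ∀ j : Fin (n + 1),
      Subsingleton (BigSite.H Scheme.fppfPrecoverage T (CGrpSh.pts Scheme.fppfPrecoverage (U j)) i) := by
    intro j
    induction j using Fin.induction with
    | zero =>
      refine subsingleton_of_forall_eq 0 fun (x : BigSite.H Scheme.fppfPrecoverage T (CGrpSh.pts Scheme.fppfPrecoverage (U 0)) i) => ?_
      rw [← Ext.comp_mk₀_id x, h0.eq_of_src (𝟙 _) 0, Ext.mk₀_zero]
      exact Ext.comp_zero x _ _ _ _
    | succ j ih =>
      refine subsingleton_of_forall_eq 0 fun (x : BigSite.H Scheme.fppfPrecoverage T (CGrpSh.pts Scheme.fppfPrecoverage (U j.succ)) i) => ?_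
      obtain ⟨y, hy⟩ := Ext.covariant_sequence_exact₂ _ (hex j) x (@Subsingleton.elim _ (subsingleton_H_ga (T := T) i hi) _ _)
      rw [← hy, @Subsingleton.elim _ ih y 0]
      exact Ext.zero_comp _ _ _ _ _
  exact h _

end Groth.Agent.GaDualLib
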